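import Mathlib
import Cfsg.Agent.S4716
import Cfsg.Agent.Lib.KGV.Basic
import Cfsg.Agent.Lib.CharCount.Basic
import Cfsg.Agent.Lib.Blocks.OneBlockLocal
import Cfsg.Agent.Lib.Blocks.SubsectionCount
import Cfsg.Agent.Lib.Blocks.PrincipalSection
import Cfsg.Agent.Lib.HeightPSolv.DegreesPrime

/-!
# `k(VG)² ≤ |V|² · k(C_G(v))` for a coprime complement `G` of a self-centralizing abelian `V`
-/

set_option autoImplicit false

namespace Cfsg.Agent.Lib.SolvBlock17

open Cfsg
open Cfsg.Agent.Lib

universe u

section Conj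

variable {X : Type u} [Group X] [Finite X]

/-- An element of order prime to an abelian normal subgroup is conjugate under it into a
complement. -/
theorem exists_conj_mem_complement (V G : Subgroup X) [V.Normal]
    (hab : ∀ a ∈ V, ∀ b ∈ V, a * b = b * a) (hGV : Subgroup.IsComplement' V G) {x : X}
    (hx : (Nat.card V).Coprime (orderOf x)) : ∃ w ∈ V, w⁻¹ * x * w ∈ G := by
  classical
  letI : CommGroup V :=
    { (inferInstance : Group V) with mul_comm := fun a b => Subtype.ext (hab a a.2 b b.2) }
  obtain ⟨⟨a, g⟩, hag⟩ := hGV.2 x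
  simp only at hag
  set c : MulAut V := MulAut.conjNormal (g : X) with hc
  have hcoe : ∀ v : V, ((c v : V) : X) = (g : X) * v * (g : X)⁻¹ := fun v =>
    MulAut.conjNormal_apply _ _
  let t : ℕ → V := fun i => ∏ j ∈ Finset.range i, (c ^ j) a
  have ht : ∀ i, x ^ i = (t i : X) * (g : X) ^ i := by
    intro i
    induction i with
    | zero => simp [t]
    | succ i ih =>
      have e : t (i + 1) = a * c (t i) := by
        show ∏ j ∈ Finset.range (i + 1), (c ^ j) a = _
        rw [Finset.prod_range_succ', map_prod, pow_zero, MulAut.one_apply, mul_comm]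
        refine congrArg _ (Finset.prod_congr rfl fun j _ => ?_)
        rw [pow_succ', MulAut.mul_apply]
      rw [e, Subgroup.coe_mul, hcoe, pow_succ' x, ih, ← hag, pow_succ' (g : X)]
      group
  set n := orderOf x with hn
  have hn1 : t n = 1 := by
    have h1 := ht n
    rw [pow_orderOf_eq_one] at h1
    have := hGV.1 (a₁ := (1, 1)) (a₂ := (t n, g ^ n)) (by simpa using h1)
    exact (congrArg Prod.fst this).symm
  set s : V := ∏ i ∈ Finset.range n, t i with hs
  have key : a ^ n * c s = s := by
    have h1 : a ^ n * c s = ∏ i ∈ Finset.range n, t (i + 1) := by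
      rw [hs, map_prod, ← Finset.card_range n, ← Finset.prod_const, Finset.card_range,
        ← Finset.prod_mul_distrib]
      refine Finset.prod_congr rfl fun i _ => ?_
      show _ = ∏ j ∈ Finset.range (i + 1), (c ^ j) a
      rw [Finset.prod_range_succ', pow_zero, MulAut.one_apply, map_prod, mul_comm]
      refine congrArg (· * a) (Finset.prod_congr rfl fun j _ => ?_)
      rw [pow_succ', MulAut.mul_apply]
    have h2 : t 0 = 1 := Finset.prod_range_zero _
    have h3 := Finset.prod_range_succ' t n
    rw [Finset.prod_range_succ, hn1, h2, mul_one, mul_one] at h3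
    rw [h1, ← h3]
  set w : V := (powCoprime hx).symm s with hw
  have hwn : w ^ n = s := by
    have := (powCoprime hx).apply_symm_apply s
    simpa [hw] using this
  have hfix : a * c w = w := by
    apply (powCoprime hx).injective
    show (a * c w) ^ n = w ^ n
    rw [mul_pow, ← map_pow, hwn, key]
  refine ⟨w, w.2, ?_⟩
  have h4 : (a : X) * ((g : X) * w * (g : X)⁻¹) = w := by
    have := congrArg Subtype.val hfix
    rwa [Subgroup.coe_mul, hcoe] at this
  have h5 : (w : X)⁻¹ * x * w = g := by
    have : x * w = w * g := by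
      calc x * w = (a : X) * ((g : X) * w * (g : X)⁻¹) * g := by rw [← hag]; group
        _ = w * g := by rw [h4]
    rw [mul_assoc, this, inv_mul_cancel_left]
  rw [h5]
  exact g.2

/-- The rank of any set of characters is at most the number of classes of a subgroup meeting every
class of `p`-regular elements. -/
theorem blockRank_le_of_cover (p : ℕ) (H : Subgroup X)
    (hcov : ∀ x : X, IsPRegular p x → ∃ h : H, IsConj x (h : X)) (B : Set (IrrCharacter X)) :
    blockRank p B ≤ Nat.card (ConjClasses H) := by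
  classical
  haveI := Fintype.ofFinite (ConjClasses H)
  choose hh hhc using hcov
  let L : (ConjClasses H → ℂ) →ₗ[ℂ] (X → ℂ) :=
    { toFun := fun F x => if h : IsPRegular p x then F (ConjClasses.mk (hh x h)) else 0
      map_add' := fun F F' => funext fun x => by simp only [Pi.add_apply]; split_ifs <;> simp
      map_smul' := fun r F => funext fun x => by
        simp only [Pi.smul_apply, RingHom.id_apply, smul_eq_mul]; split_ifs <;> simp }
  have hsub : Submodule.span ℂ ((fun χ : IrrCharacter X => pRegularPart p (χ : X → ℂ)) '' B) ≤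
      LinearMap.range L := by
    rw [Submodule.span_le]
    rintro _ ⟨χ, -, rfl⟩
    refine ⟨fun c => (χ : X → ℂ) (c.out : H), funext fun x => ?_⟩
    show (if h : IsPRegular p x then (χ : X → ℂ) _ else 0) = pRegularPart p (χ : X → ℂ) x
    by_cases h : IsPRegular p x
    · rw [dif_pos h, pRegularPart, if_pos h]
      have h1 : IsConj (((ConjClasses.mk (hh x h)).out : H) : X) x := by
        refine IsConj.trans ?_ (hhc x h).symm
        exact H.subtype.map_isConj (ConjClasses.mk_eq_mk_iff_isConj.1 (Quotient.out_eq _))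
      obtain ⟨d, hd⟩ := isConj_iff.1 h1
      exact (Chars.irr_isClassFunction χ _ d).symm.trans (congrArg (χ : X → ℂ) hd)
    · rw [dif_neg h, pRegularPart, if_neg h]
  refine (Submodule.finrank_mono hsub).trans ((LinearMap.finrank_range_le L).trans ?_)
  rw [Module.finrank_fintype_fun_eq_card, Nat.card_eq_fintype_card]

end Conj

theorem principalBlock_eq_univ {X : Type u} [Group X] [Finite X] {p : ℕ} [Fact p.Prime]
    {M : Ideal AlgInt} [M.IsPrime] (hM : IsPModular p M) (N : Subgroup X) [N.Normal]
    (hN : IsPGroup p N) (hCN : Subgroup.centralizer (N : Set X) ≤ N) :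
    principalBlock M X = Set.univ := by
  refine Set.eq_univ_of_forall fun ψ => ?_
  show SameBlock M (fun _ : X => (1 : ℂ)) (ψ : X → ℂ)
  exact Blocks.sameBlock_of_centralizer_le hM N hN hCN
    ⟨_, Chars.isIrrCharacter_one⟩ ψ

theorem heights_univ {X : Type u} [Group X] [Finite X] {p : ℕ} [Fact p.Prime] (V : Subgroup X)
    [V.Normal] (hab : ∀ a ∈ V, ∀ b ∈ V, a * b = b * a) (hidx : ¬ p ∣ V.index) :
    blockDefect p (Set.univ : Set (IrrCharacter X)) = (Nat.card V).factorization p ∧
      ∀ χ : IrrCharacter X, blockHeight p (Set.univ : Set (IrrCharacter X)) (χ : X → ℂ) = 0 := by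
  have h0 : ∀ χ : IrrCharacter X, (charDegree (χ : X → ℂ)).factorization p = 0 := fun χ => by
    obtain ⟨d, -, hd, hdvd⟩ := KGV.exists_degree_dvd_index V hab χ
    rw [HeightPSolv.charDegree_of_eq hd]
    exact Nat.factorization_eq_zero_of_not_dvd fun h => hidx (h.trans hdvd)
  have hinf : sInf ((fun χ : IrrCharacter X => (charDegree (χ : X → ℂ)).factorization p) ''
      Set.univ) = 0 := by
    refine Nat.sInf_eq_zero.2 ?_
    exact Or.inl ⟨⟨_, Chars.isIrrCharacter_one⟩, trivial, h0 _⟩
  refine ⟨?_, fun χ => ?_⟩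
  · rw [blockDefect, hinf, Nat.sub_zero, ← V.card_mul_index,
      Nat.factorization_mul Nat.card_pos.ne' V.index_ne_zero_of_finite, Finsupp.add_apply,
      Nat.factorization_eq_zero_of_not_dvd hidx, add_zero]
  · rw [blockHeight, h0, Nat.zero_sub]

/-- The square of the class number of `VG`. -/
theorem classes_sq_le {X : Type u} [Group X] [Finite X] {p : ℕ} [Fact p.Prime] (V G : Subgroup X)
    [V.Normal] (hV : IsPGroup p V) (hab : ∀ a ∈ V, ∀ b ∈ V, a * b = b * a)
    (hidx : ¬ p ∣ V.index) (hCV : Subgroup.centralizer (V : Set X) ≤ V)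
    (hGV : Subgroup.IsComplement' V G) {v : X} (hv : v ∈ V) :
    Nat.card (ConjClasses X) ^ 2 ≤ Nat.card V ^ 2 *
      Nat.card (ConjClasses (G ⊓ Subgroup.centralizer ({v} : Set X) : Subgroup X)) := by
  classical
  obtain ⟨M, hM⟩ := CharCount.exists_isPModular p Fact.out
  haveI := Blocks.isPModular_isPrime hM
  set C := Subgroup.centralizer ({v} : Set X) with hC
  have hVC : V ≤ C := fun a ha => Subgroup.mem_centralizer_singleton_iff.2 (hab a ha v hv)
  set W := V.subgroupOf C with hW
  have hWp : IsPGroup p W := hV.of_equiv (Subgroup.subgroupOfEquivOfLe hVC).symm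
  have hWab : ∀ a ∈ W, ∀ b ∈ W, a * b = b * a := fun a ha b hb => Subtype.ext (hab _ ha _ hb)
  have hWidx : ¬ p ∣ W.index := fun h => hidx (h.trans (Subgroup.relIndex_dvd_index_of_normal V C))
  have hWC : Subgroup.centralizer (W : Set C) ≤ W := by
    intro x hx
    refine Subgroup.mem_subgroupOf.2 (hCV (Subgroup.mem_centralizer_iff.2 fun a ha => ?_))
    exact congrArg Subtype.val (Subgroup.mem_centralizer_iff.1 hx ⟨a, hVC ha⟩
      (Subgroup.mem_subgroupOf.2 ha))
  obtain ⟨k, hk⟩ : ∃ k : ℕ, orderOf v = p ^ k := by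
    obtain ⟨k, hk⟩ := IsPGroup.iff_orderOf.1 hV ⟨v, hv⟩
    exact ⟨k, by rwa [Subgroup.orderOf_mk] at hk⟩
  obtain ⟨e, he⟩ := hV.exists_card_eq
  have hfac : (Nat.card V).factorization p = e := by
    rw [he, Nat.Prime.factorization_pow Fact.out, Finsupp.single_eq_same]
  have hWfac : (Nat.card W).factorization p = e := by
    rw [Nat.card_congr (Subgroup.subgroupOfEquivOfLe hVC).toEquiv, hfac]
  have hX1 := principalBlock_eq_univ hM V hV hCV
  have hC1 := principalBlock_eq_univ hM W hWp hWC
  have hind := Blocks.SubsectionCount.isInducedBlock_principal hM ⟨k, hk⟩ (x := v)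
  have h := S4716.result p M hM (principalBlock M X) (Blocks.PrincipalSection.isPBlock_principalBlock M X) e
    (by rw [hX1, (heights_univ V hab hidx).1, hfac])
    (fun χ _ => by rw [hX1]; exact (heights_univ V hab hidx).2 χ) v ⟨k, hk⟩ _ hind
    (by rw [hC1, (heights_univ W hWab hWidx).1, hWfac])
  rw [hX1, Nat.card_congr (Equiv.Set.univ _), Chars.card_irrCharacter] at h
  refine h.trans (Nat.mul_le_mul (le_of_eq ?_) ?_)
  · rw [he, ← pow_mul, mul_comm]
  · let e' : (G ⊓ C : Subgroup X) →* C := Subgroup.inclusion inf_le_right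
    refine (blockRank_le_of_cover p e'.range (fun x hx => ?_) _).trans
      (Nat.card_le_card_of_surjective _ (ConjClasses.map_surjective e'.rangeRestrict_surjective))
    have hcop : (Nat.card V).Coprime (orderOf (x : X)) := by
      rw [he, Subgroup.orderOf_coe]
      exact Nat.Coprime.pow_left _ ((Fact.out : p.Prime).coprime_iff_not_dvd.2 hx)
    obtain ⟨w, hw, hwG⟩ := exists_conj_mem_complement V G hab hGV hcop
    have hwC : w⁻¹ * (x : X) * w ∈ C :=
      C.mul_mem (C.mul_mem (C.inv_mem (hVC hw)) x.2) (hVC hw)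
    refine ⟨⟨⟨_, hwC⟩, ⟨⟨_, Subgroup.mem_inf.2 ⟨hwG, hwC⟩⟩, rfl⟩⟩, ?_⟩
    exact isConj_iff.2 ⟨⟨w, hVC hw⟩⁻¹, Subtype.ext (by simp)⟩

end Cfsg.Agent.Lib.SolvBlock17
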