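import Cfsg.Agent.Lib.SmallAbelianDefect.Regular
import Cfsg.Agent.Lib.Blocks.Covering

/-!
# At most `k(T/C)` irreducible characters lie over an invariant character of `C`
-/

set_option autoImplicit false

namespace Cfsg.Agent.Lib.SolvBlock17

open Cfsg
open Cfsg.Agent.Lib
open Cfsg.Agent.Lib.Clifford (conjFun resFun)
open Cfsg.Agent.Lib.SmallAbelianDefect
open scoped ComplexConjugate Classical

universe u

variable {T : Type u} [Group T] [Fintype T] (C : Subgroup T) [hC : C.Normal]
  (θ : IrrCharacter C) (hinv : ∀ g : T, conjFun g (θ : C → ℂ) = θ)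

include hinv

/-- On the preimage of a cyclic subgroup all characters over `θ` are proportional on the coset. -/
theorem exists_coset_vector (q : T ⧸ C) : ∃ c : overSet C θ → ℂ, ∃ φ : T → ℂ,
    ∀ (χ : overSet C θ) (g : T), (g : T ⧸ C) = q →
      ((χ : IrrCharacter T) : T → ℂ) g = φ g * c χ := by
  let H : Subgroup T := pre C q
  haveI : Fintype H := Fintype.ofFinite _
  haveI : IsCyclic (H ⧸ C.subgroupOf H) := isCyclic_pre_quotient C q
  haveI : Fintype (C.subgroupOf H) := Fintype.ofFinite _
  have hCH : C ≤ H := le_pre C q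
  let θ' : IrrCharacter (C.subgroupOf H) := ⟨_, Chars.isIrrCharacter_comp_surjective
    (Subgroup.subgroupOfEquivOfLe hCH).toMonoidHom
    (Subgroup.subgroupOfEquivOfLe hCH).surjective θ.2⟩
  obtain ⟨ψ, hψ⟩ := exists_ext_pre C θ hinv q
  have e1 : resFun (C.subgroupOf H) (ψ : H → ℂ) = (θ' : C.subgroupOf H → ℂ) :=
    funext fun a => hψ ⟨((a : H) : T), a.2⟩
  obtain ⟨-, -, hall⟩ := Clifford.gallagher ψ.2 (e1 ▸ θ'.2)
  have hcomm : ∀ a b : H ⧸ C.subgroupOf H, a * b = b * a := fun a b =>
    (IsCyclic.commGroup (α := H ⧸ C.subgroupOf H)).mul_comm a b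
  obtain ⟨x, hx⟩ := QuotientGroup.mk_surjective q
  have hxH : x ∈ H := by
    rw [Subgroup.mem_comap, QuotientGroup.mk'_apply, hx]
    exact Subgroup.mem_zpowers q
  have hmemH : ∀ g : T, (g : T ⧸ C) = q → g ∈ H := fun g hg => by
    rw [Subgroup.mem_comap, QuotientGroup.mk'_apply, hg]
    exact Subgroup.mem_zpowers q
  let φ : T → ℂ := fun g => if h : g ∈ H then (ψ : H → ℂ) ⟨g, h⟩ else 0
  choose m hm using fun χ : overSet C θ => Chars.isCharacter_exists_nat_decomp
    (Chars.isCharacter_restrict H (Chars.irr_isCharacter (χ : IrrCharacter T)))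
  -- each constituent is proportional to `ψ` on the coset
  have hprop : ∀ (χ : overSet C θ) (ψ' : IrrCharacter H), m χ ψ' ≠ 0 →
      ∃ z : ℂ, ∀ h : H, ((h : T) : T ⧸ C) = q → (ψ' : H → ℂ) h = z * (ψ : H → ℂ) h := by
    intro χ ψ' hne
    obtain ⟨θ'', hθ''⟩ := Blocks.Covering.exists_constituent (N := C.subgroupOf H) ψ'
    have hθθ : θ'' = θ' := by
      by_contra hne'
      choose k hk using fun η : IrrCharacter H => Clifford.classInner_irr_nat
        (Chars.isCharacter_restrict (H := C.subgroupOf H) (Chars.irr_isCharacter η)) θ''.2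
      have h1 : classInner (resFun (C.subgroupOf H) (fun h : H => ((χ : IrrCharacter T) : T → ℂ) h))
          (θ'' : C.subgroupOf H → ℂ) = ∑ η, (m χ η : ℂ) * k η := by
        rw [hm χ]
        have : resFun (C.subgroupOf H) (∑ η, (m χ η : ℂ) • (η : H → ℂ)) =
            ∑ η, (m χ η : ℂ) • resFun (C.subgroupOf H) (η : H → ℂ) := by
          funext a
          simp only [Clifford.resFun_apply, Finset.sum_apply, Pi.smul_apply]
        rw [this, Chars.classInner_sum_left]
        exact Finset.sum_congr rfl fun η _ => by rw [Chars.classInner_smul_left]; exact congrArg _ (hk η)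
      have hov := (mem_overSet C θ).1 χ.2
      have h2 : resFun (C.subgroupOf H) (fun h : H => ((χ : IrrCharacter T) : T → ℂ) h) =
          classInner (resFun C ((χ : IrrCharacter T) : T → ℂ)) (θ : C → ℂ) •
            (θ' : C.subgroupOf H → ℂ) := funext fun a =>
        congrFun (Clifford.resFun_eq_smul_of_invariant (χ : IrrCharacter T).2 θ.2 hov hinv)
          ⟨((a : H) : T), a.2⟩
      rw [h2, Chars.classInner_smul_left, Chars.classInner_irr_of_ne (Ne.symm hne'), mul_zero] at h1
      have h3 : ∑ η, m χ η * k η = 0 := by exact_mod_cast h1.symm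
      have h4 := (Finset.sum_eq_zero_iff.1 h3) ψ' (Finset.mem_univ _)
      exact hθ'' ((hk ψ').trans (by rw [(mul_eq_zero.1 h4).resolve_left hne, Nat.cast_zero]))
    subst hθθ
    obtain ⟨β, hβ⟩ := (hall _ ψ'.2).1 (by rw [e1]; exact hθ'')
    obtain ⟨f, hf⟩ := Clifford.exists_hom_of_linear (Chars.irr_isCharacter β)
      (FullyRamified.Frobenius.apply_one_eq_one hcomm β).1
    refine ⟨(f ((⟨x, hxH⟩ : H) : H ⧸ C.subgroupOf H) : ℂ), fun h hh => ?_⟩
    have he : (h : H ⧸ C.subgroupOf H) = ((⟨x, hxH⟩ : H) : H ⧸ C.subgroupOf H) := by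
      rw [QuotientGroup.eq, Subgroup.mem_subgroupOf]
      simp only [Subgroup.coe_mul, Subgroup.coe_inv]
      rw [← QuotientGroup.eq, hh, hx]
    rw [hβ, Pi.mul_apply, mul_comm]
    congr 1
    show (β : H ⧸ C.subgroupOf H → ℂ) (h : H ⧸ C.subgroupOf H) = _
    rw [he]
    exact congrFun hf _
  let z : overSet C θ → IrrCharacter H → ℂ := fun χ ψ' =>
    if h : m χ ψ' ≠ 0 then Classical.choose (hprop χ ψ' h) else 0
  refine ⟨fun χ => ∑ ψ', (m χ ψ' : ℂ) * z χ ψ', φ, fun χ g hg => ?_⟩
  have h1 := congrFun (hm χ) ⟨g, hmemH g hg⟩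
  simp only [Finset.sum_apply, Pi.smul_apply, smul_eq_mul] at h1
  have hφ : φ g = (ψ : H → ℂ) ⟨g, hmemH g hg⟩ := dif_pos (hmemH g hg)
  refine h1.trans ?_
  rw [hφ, Finset.mul_sum]
  refine Finset.sum_congr rfl fun ψ' _ => ?_
  by_cases h : m χ ψ' ≠ 0
  · have hs := Classical.choose_spec (hprop χ ψ' h) ⟨g, hmemH g hg⟩ hg
    have hz : z χ ψ' = Classical.choose (hprop χ ψ' h) := dif_pos h
    rw [hs, hz]
    ring
  · rw [not_not.1 h, Nat.cast_zero, zero_mul, zero_mul, mul_zero]

/-- At most `k(T/C)` characters lie over an invariant character of `C`. -/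
theorem card_overSet_le : (overSet C θ).card ≤ Nat.card (ConjClasses (T ⧸ C)) := by
  haveI := Fintype.ofFinite (ConjClasses (T ⧸ C))
  choose c φ hc using fun k : ConjClasses (T ⧸ C) => exists_coset_vector C θ hinv k.out
  let K : (overSet C θ → ℂ) →ₗ[ℂ] (ConjClasses (T ⧸ C) → ℂ) :=
    { toFun := fun a k => ∑ χ, a χ * c k χ
      map_add' := fun a b => funext fun k => by
        simp only [Pi.add_apply, add_mul, Finset.sum_add_distrib]
      map_smul' := fun r a => funext fun k => by
        simp only [Pi.smul_apply, RingHom.id_apply, smul_eq_mul, Finset.mul_sum, mul_assoc] }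
  have hK : Function.Injective K := by
    rw [← LinearMap.ker_eq_bot, LinearMap.ker_eq_bot']
    intro a ha
    have hzero : ∀ g : T, ∑ χ : overSet C θ, a χ * ((χ : IrrCharacter T) : T → ℂ) g = 0 := by
      intro g
      set k := ConjClasses.mk (g : T ⧸ C)
      have h1 : IsConj (g : T ⧸ C) k.out :=
        ConjClasses.mk_eq_mk_iff_isConj.1 (Quotient.out_eq k).symm
      obtain ⟨y, hy⟩ := isConj_iff.1 h1
      obtain ⟨t, rfl⟩ := QuotientGroup.mk_surjective y
      have h2 : ((t * g * t⁻¹ : T) : T ⧸ C) = k.out := hy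
      calc ∑ χ : overSet C θ, a χ * ((χ : IrrCharacter T) : T → ℂ) g
          = ∑ χ : overSet C θ, φ k (t * g * t⁻¹) * (a χ * c k χ) :=
            Finset.sum_congr rfl fun χ _ => by
              rw [← Chars.irr_isClassFunction (χ : IrrCharacter T) g t, hc k χ _ h2]
              ring
        _ = 0 := by
            rw [← Finset.mul_sum, show ∑ χ : overSet C θ, a χ * c k χ = 0 from congrFun ha k,
              mul_zero]
    have hli := (Chars.irr_linearIndependent (G := T)).comp
      (fun χ : overSet C θ => (χ : IrrCharacter T)) Subtype.coe_injective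
    rw [Fintype.linearIndependent_iff] at hli
    exact funext fun χ => hli a (funext fun g => by
      simp only [Finset.sum_apply, Pi.smul_apply, smul_eq_mul, Function.comp_apply, Pi.zero_apply]
      exact hzero g) χ
  have h := LinearMap.finrank_le_finrank_of_injective hK
  rwa [Module.finrank_fintype_fun_eq_card, Module.finrank_fintype_fun_eq_card, Fintype.card_coe,
    ← Nat.card_eq_fintype_card] at h

end Cfsg.Agent.Lib.SolvBlock17
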