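import Cfsg.Agent.Lib.SolvBlock17.Groups
import Cfsg.Agent.Lib.SolvBlock17.OverBound
import Cfsg.Agent.Lib.OsimaConverse.Height
import Cfsg.Agent.Lib.PSolvable.PSolv

/-!
# Fong's reduction for the number of characters of a block of a solvable group
-/

set_option autoImplicit false
set_option linter.unusedSectionVars false

namespace Cfsg.Agent.Lib.SolvBlock17

open Cfsg
open Cfsg.Agent.Lib
open Cfsg.Agent.Lib.Clifford (conjFun resFun resTo)
open scoped ComplexConjugate Classical

universe u

/-- The block over an invariant character of the `p'`-core has full defect. -/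
theorem defect_eq_of_invariant {G : Type u} [Group G] [Fintype G] {p : ℕ} [Fact p.Prime]
    {M : Ideal AlgInt} [M.IsPrime] (hM : IsPModular p M) (hs : IsPSolvable p G)
    (N : Subgroup G) [N.Normal] [Fintype N] (hN : ¬ p ∣ Nat.card N)
    (hN0 : pPrimeCore p (G ⧸ N) = ⊥) (θ : IrrCharacter N)
    (hθ : ∀ g : G, conjFun g (θ : N → ℂ) = (θ : N → ℂ)) {B : Set (IrrCharacter G)}
    (hB : IsPBlock M B) {χ : IrrCharacter G} (hχ : χ ∈ B)
    (hχθ : classInner (resFun N (χ : G → ℂ)) (θ : N → ℂ) ≠ 0) :
    blockDefect p B = (Nat.card G).factorization p := by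
  have hpp : p.Prime := Fact.out
  let H := G ⧸ N
  let π := QuotientGroup.mk' N
  haveI : Fintype H := Fintype.ofFinite _
  -- Sylow subgroups of the quotient
  let S : Sylow p H := Classical.choice inferInstance
  let R : Subgroup G := (S : Subgroup H).comap π
  haveI : Fintype R := Fintype.ofFinite _
  have hNR : N ≤ R := fun n hn => by
    show π n ∈ (S : Subgroup H)
    rw [show π n = 1 from (QuotientGroup.eq_one_iff n).2 hn]; exact one_mem _
  have hGfac : (Nat.card G).factorization p = (Nat.card H).factorization p := by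
    rw [← N.card_mul_index, Nat.factorization_mul Nat.card_pos.ne' N.index_ne_zero_of_finite,
      Finsupp.add_apply, Nat.factorization_eq_zero_of_not_dvd hN, zero_add]
    rfl
  have hidx : ∃ a, N.relIndex R = p ^ a := by
    refine ⟨(Nat.card H).factorization p, ?_⟩
    have h1 := PSolvable.card_mul_relIndex hNR
    rw [PSolvable.card_comap_mk' N, S.card_eq_multiplicity] at h1
    exact Nat.eq_of_mul_eq_mul_left Nat.card_pos h1
  have hRp : ¬ p ∣ R.index := by
    rw [Subgroup.index_comap_of_surjective _ (QuotientGroup.mk'_surjective N)]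
    exact S.not_dvd_index
  obtain ⟨θR, hθR, -⟩ := InvariantCore.exists_canonical_extension N R hNR hN hidx θ
    (fun g n => congrFun (hθ g) n)
  -- a character of degree prime to p in the block
  obtain ⟨φ, hφB, hφdeg⟩ : ∃ φ ∈ B, (charDegree (φ : G → ℂ)).factorization p = 0 := by
    obtain ⟨m, hm⟩ := Chars.isCharacter_exists_nat_decomp
      (Chars.isCharacter_indFun R (Chars.irr_isCharacter θR))
    have hθ1 : (θR : R → ℂ) 1 = (charDegree (θ : N → ℂ) : ℂ) := by
      rw [← (Blocks.exists_degree_eq θ).1]
      rw [← hθR 1, map_one]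
    have hdeg : ∑ φ, m φ * charDegree (φ : G → ℂ) = R.index * charDegree (θ : N → ℂ) := by
      have h1 := congrFun hm 1
      rw [Chars.indFun_one_eq, hθ1] at h1
      simp only [Finset.sum_apply, Pi.smul_apply, smul_eq_mul,
        fun φ : IrrCharacter G => (Blocks.exists_degree_eq φ).1] at h1
      exact_mod_cast h1.symm
    obtain ⟨φ, -, hφ⟩ : ∃ φ ∈ (Finset.univ : Finset (IrrCharacter G)),
        ¬ p ∣ m φ * charDegree (φ : G → ℂ) := by
      by_contra! hall
      have h2 : p ∣ R.index * charDegree (θ : N → ℂ) := hdeg ▸ Finset.dvd_sum hall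
      rcases hpp.dvd_mul.1 h2 with h | h
      · exact hRp h
      · have h0 := OsimaConverse.factorization_charDegree_one hN θ
        have := (hpp.factorization_pos_of_dvd (Blocks.exists_degree_eq θ).2.1 h)
        omega
    have hmφ : m φ ≠ 0 := fun h => hφ (by rw [h, zero_mul]; exact dvd_zero p)
    refine ⟨φ, OsimaConverse.mem_of_over_invariant hM hs N hN hN0 θ hθ hB hχ hχθ φ ?_,
      Nat.factorization_eq_zero_of_not_dvd fun h => hφ (h.mul_left _)⟩
    have hcon : classInner (resFun R (φ : G → ℂ)) (θR : R → ℂ) = m φ := by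
      rw [← Chars.conj_classInner]
      have h2 : classInner (indFun R (θR : R → ℂ)) (φ : G → ℂ) = m φ := by
        rw [hm, Chars.classInner_sum_smul_irr]
      rw [Chars.classInner_indFun_left R _ _ (Chars.irr_isClassFunction φ)] at h2
      exact (congrArg conj h2).trans (Complex.conj_natCast _)
    -- restricting further
    obtain ⟨k, hk⟩ := Chars.isCharacter_exists_nat_decomp
      (Chars.isCharacter_restrict R (Chars.irr_isCharacter φ))
    have hkθ : k θR = m φ := by
      have h3 : classInner (resFun R (φ : G → ℂ)) (θR : R → ℂ) = k θR := by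
        show classInner (fun r : R => (φ : G → ℂ) r) _ = _
        rw [hk, Chars.classInner_sum_smul_irr]
      exact_mod_cast h3.symm.trans hcon
    choose l hl using fun ζ : IrrCharacter R => Chars.isCharacter_classInner_nat
      (Clifford.isCharacter_resTo hNR (Chars.irr_isCharacter ζ)) (Chars.irr_isCharacter θ)
    have hdec : resFun N (φ : G → ℂ) = ∑ ζ : IrrCharacter R, (k ζ : ℂ) • resTo hNR (ζ : R → ℂ) := by
      funext n
      have := congrFun hk ⟨(n : G), hNR n.2⟩
      simpa [resFun, resTo] using this
    rw [hdec, Chars.classInner_sum_left]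
    simp only [Chars.classInner_smul_left, hl]
    rw [← Finset.sum_congr rfl (fun ζ _ => Nat.cast_mul (k ζ) (l ζ)), ← Nat.cast_sum,
      Nat.cast_ne_zero]
    intro h0
    rcases Nat.mul_eq_zero.1 (Finset.sum_eq_zero_iff.1 h0 θR (Finset.mem_univ _)) with h | h
    · exact hmφ (hkθ ▸ h)
    · have h4 : classInner (resTo hNR (θR : R → ℂ)) (θ : N → ℂ) = 1 := by
        rw [show resTo hNR (θR : R → ℂ) = (θ : N → ℂ) from funext fun n => hθR n,
          Chars.classInner_irr_self]
      rw [hl, h] at h4
      simp at h4
  have hdefect : blockDefect p B = (Nat.card G).factorization p := by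
    have h1 := Blocks.factorization_degree_add_blockDefect hM hB hφB
    have h2 := Blocks.blockDefect_le (p := p) B
    omega
  exact hdefect

/-- `k(B) ≤ 3^(d-1) p^d` for a block of defect `d` of a solvable group. -/
theorem card_block_le_bnd (n : ℕ) : ∀ {G : Type u} [Group G] [Fintype G] {p : ℕ} [Fact p.Prime]
    {M : Ideal AlgInt} [M.IsPrime], IsPModular p M → Nat.card G ≤ n → Group.IsSolvable G →
    ∀ B : Set (IrrCharacter G), IsPBlock M B → Nat.card B ≤ bnd p (blockDefect p B) := by
  induction n with
  | zero =>
    intro G _ _ p _ M _ _ hn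
    have := Nat.card_pos (α := G)
    omega
  | succ n ih =>
    intro G _ _ p _ M _ hM hn hsol B hB
    haveI := hsol
    have hs : IsPSolvable p G := PSolvable.isPSolvable_of_isSolvable
    obtain ⟨χ, hχ⟩ := Blocks.isPBlock_nonempty hB
    let N : Subgroup G := pPrimeCore p G
    have := PSolvable.pPrimeCore_characteristic (p := p) (G := G)
    haveI hNn : N.Normal := inferInstanceAs (pPrimeCore p G).Normal
    haveI : Fintype N := Fintype.ofFinite _
    have hN : ¬ p ∣ Nat.card N := PSolvable.pPrimeCore_not_dvd
    obtain ⟨θ, hθ⟩ := Blocks.Covering.exists_constituent (N := N) χ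
    let T : Subgroup G :=
      { carrier := {g | conjFun g (θ : N → ℂ) = (θ : N → ℂ)}
        one_mem' := Clifford.conjFun_one _
        mul_mem' := fun {a b} ha hb => by
          show conjFun (a * b) (θ : N → ℂ) = _
          rw [Clifford.conjFun_mul, show conjFun a (θ : N → ℂ) = _ from ha]
          exact hb
        inv_mem' := fun {a} ha => by
          show conjFun a⁻¹ (θ : N → ℂ) = _
          conv_lhs => rw [← show conjFun a (θ : N → ℂ) = (θ : N → ℂ) from ha]
          rw [← Clifford.conjFun_mul, mul_inv_cancel, Clifford.conjFun_one] }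
    by_cases hT : T = ⊤
    · have hinv : ∀ g : G, conjFun g (θ : N → ℂ) = (θ : N → ℂ) := fun g => by
        show g ∈ T
        rw [hT]; exact Subgroup.mem_top g
      have hN0 : pPrimeCore p (G ⧸ N) = ⊥ := PSolvable.pPrimeCore_quotient_eq_bot
      rw [defect_eq_of_invariant hM hs N hN hN0 θ hinv hB hχ hθ,
        factorization_card_quotient N p, Nat.factorization_eq_zero_of_not_dvd hN, zero_add]
      refine le_trans ?_ (classes_le_bnd _ le_rfl inferInstance hN0)
      refine le_trans ?_ (card_overSet_le N θ hinv)
      rw [← Nat.card_eq_finsetCard]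
      exact Nat.card_le_card_of_injective
        (fun φ : B => (⟨φ.1, (SmallAbelianDefect.mem_overSet N θ).2
          (by
            convert Blocks.Covering.constituent_of_sameBlock hM hN
              (Blocks.sameBlock_of_mem hB hχ φ.2) hθ)⟩ : SmallAbelianDefect.overSet N θ))
        fun a b h => Subtype.ext
          (congrArg (fun z : SmallAbelianDefect.overSet N θ => (z : IrrCharacter G)) h)
    · haveI : Fintype T := Fintype.ofFinite _
      have hNT : N ≤ T := fun x hx => funext fun n => by
        show (θ : N → ℂ) _ = _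
        exact Chars.irr_isClassFunction θ n ⟨x, hx⟩
      have hsingle : ∀ θ' ∈ Cfsg.blockOf M (θ : N → ℂ), θ' = θ := fun θ' h =>
        Blocks.Covering.eq_of_sameBlock_of_not_dvd hM hN h
      have hb : IsPBlock M (Cfsg.blockOf M (θ : N → ℂ)) := Blocks.isPBlock_blockOf θ
      have hstab : BlockUnion.Stab.IsStab T (Cfsg.blockOf M (θ : N → ℂ)) := by
        intro g
        constructor
        · intro hg θ₁ hθ₁ θ₁' h1
          obtain rfl := hsingle θ₁ hθ₁
          rw [show θ₁' = θ₁ from Subtype.ext (funext fun n => (h1 n).trans (congrFun hg n))]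
          exact hθ₁
        · intro h
          have h1 := h θ (Blocks.mem_blockOf_self θ)
            ⟨_, Clifford.isIrrCharacter_conjFun g θ.2⟩ (fun _ => rfl)
          exact congrArg Subtype.val (hsingle _ h1)
      obtain ⟨ξ, hξ, hξχ⟩ := BlockUnion.Stab.exists_ind_eq hb hstab hNT
        (Blocks.mem_blockOf_self θ) hθ
      have hcard : Nat.card T ≤ n := by
        have h1 : Nat.card T < Nat.card G := by
          refine lt_of_le_of_ne (Subgroup.card_le_card_group T) fun h => hT ?_
          exact Subgroup.eq_top_of_card_eq T h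
        omega
      set B' := Cfsg.blockOf M (ξ : T → ℂ) with hB'def
      have hB' : IsPBlock M B' := Blocks.isPBlock_blockOf ξ
      have hind := BlockUnion.Stab.isInducedBlock_ind hb hstab hNT hB' (Blocks.mem_blockOf_self ξ) hξ
      rw [hξχ, ← Blocks.eq_blockOf_of_mem hB hχ] at hind
      rw [(BlockUnion.Stab.height_defect_eq (p := p) hb hstab hNT hind
        (Blocks.mem_blockOf_self ξ) hξ).1]
      refine le_trans ?_ (ih (M := M) hM hcard inferInstance B' hB')
      have hiff := BlockUnion.Stab.mem_iff_exists_ind hb hstab hNT hind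
        (Blocks.mem_blockOf_self ξ) hξ
      choose ψ hψ hψe using fun φ : B => (hiff φ.1).1 φ.2
      exact Nat.card_le_card_of_injective (fun φ : B => (⟨ψ φ, hψ φ⟩ : B'))
        fun a b h => Subtype.ext (Subtype.ext ((hψe a).trans
          ((congrArg (fun z : B' => indFun T ((z : IrrCharacter T) : T → ℂ)) h).trans (hψe b).symm)))

end Cfsg.Agent.Lib.SolvBlock17
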