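import Cfsg.Agent.Lib.ClassesModFitting.Main

/-!
# Subgroups of a solvable linear group meeting a maximal abelian normal subgroup trivially

Their class numbers are at most `9 ^ (N - 1)` in dimension `N ≥ 3`; the characteristic only has
to be prime to the group order.
-/

set_option autoImplicit false
set_option linter.style.haveILetI false

namespace Cfsg.Agent.Lib.SolvBlock17

open Module ClassLowerSolv ClassesModFitting
open scoped commutatorElement

theorem nine_mul_prod_sq_le {ι : Type*} (s : Finset ι) (m : ι → ℕ) (hm : ∀ i ∈ s, 1 ≤ m i) :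
    9 ^ s.card * ∏ i ∈ s, m i ^ 2 ≤ 4 ^ s.card * 3 ^ (∑ i ∈ s, m i) := by
  classical
  have key : ∀ n : ℕ, 1 ≤ n → 9 * n ^ 2 ≤ 4 * 3 ^ n := by
    intro n hn
    induction n, hn using Nat.le_induction with
    | base => norm_num
    | succ n hn ih =>
      rcases Nat.lt_or_ge n 2 with h | h
      · interval_cases n
        norm_num
      · rw [pow_succ 3 n]
        nlinarith
  rw [← Finset.prod_pow_eq_pow_sum, ← Finset.prod_const, ← Finset.prod_const,
    ← Finset.prod_mul_distrib, ← Finset.prod_mul_distrib]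
  exact Finset.prod_le_prod' fun i hi => key _ (hm i hi)

theorem sq_le_three_pow : ∀ d : ℕ, 3 ≤ d → d ^ 2 ≤ 3 ^ (d - 1) := by
  intro d hd
  induction d, hd using Nat.le_induction with
  | base => norm_num
  | succ d hd ih =>
    have h : 3 ^ (d + 1 - 1) = 3 * 3 ^ (d - 1) := by
      rw [← pow_succ']
      congr 1
      omega
    rw [h]
    nlinarith

/-- The product of the squares of the multiplicities. -/
theorem prod_sq_le {ι : Type*} [Fintype ι] (m : ι → ℕ) (hm : ∀ i, 1 ≤ m i)
    (h3 : 3 ≤ ∑ i, m i) : ∏ i, m i ^ 2 ≤ 3 ^ (∑ i, m i - 1) := by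
  classical
  set d := ∑ i, m i
  rcases Nat.lt_or_ge (Fintype.card ι) 2 with hc | hc
  · obtain ⟨i⟩ : Nonempty ι := by
      by_contra hne
      rw [not_nonempty_iff] at hne
      simp [d] at h3
    haveI : Subsingleton ι := Fintype.card_le_one_iff_subsingleton.1 (by omega)
    rw [Fintype.prod_subsingleton _ i]
    rw [show d = m i from Fintype.sum_subsingleton m i] at h3 ⊢
    exact sq_le_three_pow _ h3
  · have h := nine_mul_prod_sq_le Finset.univ m fun i _ => hm i
    rw [Finset.card_univ] at h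
    obtain ⟨k, hk⟩ := Nat.exists_eq_add_of_le hc
    rw [hk, pow_add, pow_add] at h
    have h4 : 4 ^ k ≤ 9 ^ k := Nat.pow_le_pow_left (by norm_num) _
    have h81 : 81 * ∏ i, m i ^ 2 ≤ 16 * 3 ^ d := by
      refine Nat.le_of_mul_le_mul_left (c := 9 ^ k) ?_ ?_; swap; positivity
      calc 9 ^ k * (81 * ∏ i, m i ^ 2) = 9 ^ 2 * 9 ^ k * ∏ i, m i ^ 2 := by ring
        _ ≤ 4 ^ 2 * 4 ^ k * 3 ^ d := h
        _ = 4 ^ k * (16 * 3 ^ d) := by ring
        _ ≤ 9 ^ k * (16 * 3 ^ d) := Nat.mul_le_mul_right _ h4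
    have e : 3 ^ d = 3 * 3 ^ (d - 1) := by
      rw [← pow_succ', Nat.sub_add_cancel (by omega)]
    rw [e] at h81
    omega

/-- Subgroups meeting a maximal abelian normal subgroup trivially have few classes. -/
theorem exists_abelian_classes_bound {C : Type} [Group C] [Finite C] [Group.IsSolvable C]
    {F : Type*} [Field F] [IsAlgClosed F] (hC : (Nat.card C : F) ≠ 0)
    {W : Type*} [AddCommGroup W] [Module F W]
    [FiniteDimensional F W] (ρ : C →* Module.End F W) (hρ : Function.Injective ρ)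
    (hW : 3 ≤ finrank F W) :
    ∃ B : Subgroup C, B.Normal ∧ (∀ a ∈ B, ∀ b ∈ B, a * b = b * a) ∧
      ∀ H : Subgroup C, H ⊓ B = ⊥ →
        Nat.card (ConjClasses H) ≤ 9 ^ (finrank F W - 1) := by
  classical
  obtain ⟨B, hBn, hA, hBmax⟩ := exists_maximal_abelian (C := C)
  haveI := hBn
  have hB0 : (Nat.card B : F) ≠ 0 := by
    intro h
    obtain ⟨k, hk⟩ := Subgroup.card_subgroup_dvd_card B
    exact hC (by rw [hk, Nat.cast_mul, h, zero_mul])
  obtain ⟨E, hEn, hBE, hEK, hEc, hcen, hTE⟩ := exists_layer B hA hBmax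
  haveI := hEn
  set K := Subgroup.centralizer (B : Set C) with hK
  haveI hKn : K.Normal := by rw [hK]; infer_instance
  have hcentral : ∀ k ∈ K, ∀ b ∈ B, b * k = k * b := fun k hk b hb =>
    Subgroup.mem_centralizer_iff.mp hk b hb
  haveI : Finite (Wts ρ B) := finite_wts hA hB0
  letI : Fintype (Wts ρ B) := Fintype.ofFinite _
  -- the action on the weights
  letI actΩ : MulAction C (Wts ρ B) :=
    { smul := fun g χ => ⟨fun b => χ.1 (MulAut.conjNormal g⁻¹ b), by
        obtain ⟨w, hw, hw0⟩ := Submodule.exists_mem_ne_zero_of_ne_bot χ.2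
        refine fun hbot => hw0 ?_
        have h := mapsTo_wsp g χ.1 hw
        rw [hbot, Submodule.mem_bot] at h
        have h2 := congrArg (ρ g⁻¹) h
        rwa [map_zero, ← rho_mul_apply, inv_mul_cancel, map_one, Module.End.one_apply] at h2⟩
      one_smul := fun χ => Subtype.ext (_root_.funext fun b => congrArg χ.1 (Subtype.ext (by simp)))
      mul_smul := fun g h χ => Subtype.ext (_root_.funext fun b => congrArg χ.1 (Subtype.ext (by
        simp [mul_assoc]))) }
  set φ := MulAction.toPermHom C (Wts ρ B) with hφ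
  have hker : φ.ker ≤ K := by
    intro g hg
    rw [hK, Subgroup.mem_centralizer_iff]
    intro b hb
    have hfix : ∀ χ : Wts ρ B, χ.1 (MulAut.conjNormal g⁻¹ (MulAut.conjNormal g ⟨b, hb⟩)) =
        χ.1 (MulAut.conjNormal g ⟨b, hb⟩) := fun χ => by
      have h1 : φ g χ = χ := by rw [MonoidHom.mem_ker.mp hg]; rfl
      exact congrFun (congrArg Subtype.val h1) _
    have heq : ρ (g * b * g⁻¹) = ρ b := ext_on_wsp hA hB0 fun χ hχ w hw => by
      rw [mem_wsp] at hw
      have e1 := hw (MulAut.conjNormal g ⟨b, hb⟩)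
      rw [MulAut.conjNormal_apply] at e1
      rw [e1, hw ⟨b, hb⟩]
      congr 1
      have h2 := hfix ⟨χ, hχ⟩
      rw [map_inv, MulAut.inv_apply_self] at h2
      exact h2.symm
    have := hρ heq
    rw [mul_inv_eq_iff_eq_mul] at this
    exact this.symm
  have hsum : ∑ χ : Wts ρ B, finrank F (wsp ρ B χ.1) = finrank F W := sum_finrank_wts hA hB0
  have hs1 : 1 ≤ Fintype.card (Wts ρ B) := by
    by_contra h0
    haveI : IsEmpty (Wts ρ B) := Fintype.card_eq_zero_iff.mp (by omega)
    rw [Fintype.sum_empty] at hsum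
    omega
  have hKidx : K.index ≤ 3 ^ (Fintype.card (Wts ρ B) - 1) := by
    have h1 := (card_range_le_permBound φ).trans
      (permBound_le_three_pow (by rw [Nat.card_eq_fintype_card]; exact hs1))
    rw [Nat.card_eq_fintype_card (α := Wts ρ B), ← Subgroup.index_ker] at h1
    exact (Nat.le_of_dvd (Nat.pos_of_ne_zero Subgroup.index_ne_zero_of_finite)
      (Subgroup.index_dvd_of_le hker)).trans h1
  have hpres : ∀ k ∈ K, ∀ χ : B → F, ∀ w ∈ wsp ρ B χ, ρ k w ∈ wsp ρ B χ := by
    intro k hk χ w hw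
    rw [mem_wsp] at hw ⊢
    intro b
    rw [← rho_mul_apply, hcentral k hk b b.2, rho_mul_apply, hw b, map_smul]
  -- the commutator form
  let cm : E → E → B := fun e f => ⟨(e : C) * f * (e : C)⁻¹ * (f : C)⁻¹, hEc e e.2 f f.2⟩
  have cm_mul : ∀ e e' f : E, cm (e * e') f = cm e f * cm e' f := by
    intro e e' f
    refine Subtype.ext ?_
    show ((e : C) * e') * f * ((e : C) * e')⁻¹ * (f : C)⁻¹ =
      ((e : C) * f * (e : C)⁻¹ * (f : C)⁻¹) * ((e' : C) * f * (e' : C)⁻¹ * (f : C)⁻¹)
    rw [hA _ (hEc e e.2 f f.2) _ (hEc e' e'.2 f f.2)]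
    have hc : ((e' : C) * f * (e' : C)⁻¹ * (f : C)⁻¹) * e =
        e * ((e' : C) * f * (e' : C)⁻¹ * (f : C)⁻¹) :=
      hcentral e (hEK e.2) _ (hEc e' e'.2 f f.2)
    rw [show ((e : C) * e') * f * ((e : C) * e')⁻¹ * (f : C)⁻¹ =
      e * ((e' : C) * f * (e' : C)⁻¹ * (f : C)⁻¹) * ((f : C) * (e : C)⁻¹ * (f : C)⁻¹) from by group,
      ← hc]
    group
  have cm_inv : ∀ e f : E, cm f e = (cm e f)⁻¹ := fun e f => Subtype.ext (by
    show (f : C) * e * (f : C)⁻¹ * (e : C)⁻¹ = ((e : C) * f * (e : C)⁻¹ * (f : C)⁻¹)⁻¹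
    group)
  let cmh : E → (E →* B) := fun f => MonoidHom.mk' (fun e => cm e f) fun e e' => cm_mul e e' f
  have hcmpow : ∀ (e f : E) (d : ℕ), cm (e ^ d) f = cm e f ^ d := fun e f d => map_pow (cmh f) e d
  have hcm1 : ∀ (e f : E), (e : C) ∈ B → cm e f = 1 := fun e f he => Subtype.ext (by
    show (e : C) * f * (e : C)⁻¹ * (f : C)⁻¹ = 1
    rw [hcentral f (hEK f.2) e he, mul_inv_cancel_right, mul_inv_cancel])
  -- `E / B` has squarefree exponent
  set n := Monoid.exponent (E ⧸ B.subgroupOf E) with hn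
  have hpown : ∀ e : E, ((e ^ n : E) : C) ∈ B := fun e => by
    have h := Monoid.pow_exponent_eq_one (QuotientGroup.mk e : E ⧸ B.subgroupOf E)
    rw [← QuotientGroup.mk_pow, QuotientGroup.eq_one_iff, Subgroup.mem_subgroupOf] at h
    exact h
  have hnsq : Squarefree n := by
    rw [Nat.squarefree_iff_prime_squarefree]
    rintro q hq ⟨t, ht⟩
    set d := q * t with hd
    set S : Set C := (B : Set C) ∪ {z | ∃ e : E, z = ((e ^ d : E) : C)} with hS
    have hconj : Group.conjugatesOfSet S ⊆ S := by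
      intro z hz
      obtain ⟨a, ha, hza⟩ := Group.mem_conjugatesOfSet_iff.mp hz
      obtain ⟨g, rfl⟩ := isConj_iff.mp hza
      rcases ha with ha | ⟨e, rfl⟩
      · exact Or.inl (hBn.conj_mem a ha g)
      · refine Or.inr ⟨MulAut.conjNormal g e, ?_⟩
        rw [← map_pow, MulAut.conjNormal_apply]
    have hcommS : ∀ a ∈ S, ∀ b ∈ S, a * b = b * a := by
      rintro a (ha | ⟨e, rfl⟩) b (hb | ⟨f, rfl⟩)
      · exact hA a ha b hb
      · exact hcentral _ (hEK (f ^ d).2) a ha
      · exact (hcentral _ (hEK (e ^ d).2) b hb).symm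
      · have h1 : cm (e ^ d) (f ^ d) = 1 := by
          rw [hcmpow, cm_inv, hcmpow, inv_pow, ← pow_mul, show d * d = n * t by rw [ht, hd]; ring,
            pow_mul, ← hcmpow, hcm1 _ _ (hpown f), one_pow, inv_one]
        have h2 : ((e ^ d : E) : C) * (f ^ d : E) * ((e ^ d : E) : C)⁻¹ * ((f ^ d : E) : C)⁻¹ = 1 :=
          congrArg Subtype.val h1
        rw [mul_inv_eq_one, mul_inv_eq_iff_eq_mul] at h2
        exact h2
    have hD : Subgroup.normalClosure S = B := by
      refine hBmax _ Subgroup.normalClosure_normal ?_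
        fun b hb => Subgroup.subset_normalClosure (Or.inl hb)
      have hle : Subgroup.normalClosure S ≤ Subgroup.closure S := Subgroup.closure_mono hconj
      have hc : Subgroup.closure S ≤ Subgroup.centralizer (Subgroup.closure S : Set C) := by
        rw [Subgroup.centralizer_closure, Subgroup.closure_le]
        exact fun a ha => Subgroup.mem_centralizer_iff.mpr fun b hb => hcommS b hb a ha
      exact fun a ha b hb => (Subgroup.mem_centralizer_iff.mp (hc (hle hb)) a (hle ha))
    have hdvd : n ∣ d := Monoid.exponent_dvd_of_forall_pow_eq_one fun z => by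
      obtain ⟨e, rfl⟩ := QuotientGroup.mk_surjective z
      rw [← QuotientGroup.mk_pow, QuotientGroup.eq_one_iff, Subgroup.mem_subgroupOf, ← hD]
      exact Subgroup.subset_normalClosure (Or.inr ⟨e, rfl⟩)
    have hn0 : n ≠ 0 := Monoid.exponent_ne_zero_of_finite
    have ht0 : 0 < d := Nat.pos_of_ne_zero fun h0 => hn0 (by rw [ht, mul_assoc, ← hd, h0, mul_zero])
    have := Nat.le_of_dvd ht0 hdvd
    rw [ht, mul_assoc, ← hd] at this
    have := hq.two_le
    nlinarith
  refine ⟨B, hBn, hA, ?_⟩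
  -- the forms
  let χu : Wts ρ B → (B →* Fˣ) := fun χ =>
    ({ toFun := χ.1, map_one' := wsp_one χ.2, map_mul' := wsp_mul χ.2 } : B →* F).toHomUnits
  have hχu : ∀ χ b, ((χu χ b : Fˣ) : F) = χ.1 b := fun χ b => rfl
  let Φ : Wts ρ B → (E →* E →* Fˣ) := fun χ =>
    (MonoidHom.mk' (fun f : E => (χu χ).comp (cmh f)) fun f f' => MonoidHom.ext fun e => by
      show χu χ (cm e (f * f')) = χu χ (cm e f) * χu χ (cm e f')
      rw [cm_inv (f * f') e, cm_mul, cm_inv f e, cm_inv f' e, map_inv, map_mul, map_inv, map_inv,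
        mul_inv]).flip
  have hΦ : ∀ χ e f, Φ χ e f = χu χ (cm e f) := fun χ e f => rfl
  have hΦswap : ∀ χ e f, Φ χ f e = (Φ χ e f)⁻¹ := fun χ e f => by
    rw [hΦ, hΦ, cm_inv e f, map_inv]
  set N : Wts ρ B → Subgroup E := fun χ => (Φ χ).ker with hN
  have hNmem : ∀ χ e, e ∈ N χ ↔ ∀ f, Φ χ e f = 1 := fun χ e => by
    rw [hN, MonoidHom.mem_ker]; exact ⟨fun h f => DFunLike.congr_fun h f, fun h => MonoidHom.ext h⟩
  have hBN : ∀ χ (e : E), (e : C) ∈ B → e ∈ N χ := fun χ e he => (hNmem χ e).mpr fun f => by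
    rw [hΦ, hcm1 e f he, map_one]
  letI instQ : ∀ χ, CommGroup (E ⧸ N χ) := fun χ =>
    { QuotientGroup.Quotient.group (N χ) with
      mul_comm := fun a b => by
        obtain ⟨e, rfl⟩ := QuotientGroup.mk_surjective a
        obtain ⟨f, rfl⟩ := QuotientGroup.mk_surjective b
        rw [← QuotientGroup.mk_mul, ← QuotientGroup.mk_mul, QuotientGroup.eq]
        refine hBN χ _ ?_
        have h := hEc ((f : C)⁻¹) (inv_mem f.2) ((e : C)⁻¹) (inv_mem e.2)
        rw [inv_inv, inv_inv] at h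
        simpa [mul_assoc] using h }
  let G1 : ∀ χ, E →* (E ⧸ N χ →* Fˣ) := fun χ => (QuotientGroup.lift (N χ) (Φ χ) le_rfl).flip
  let P : ∀ χ, E ⧸ N χ →* E ⧸ N χ →* Fˣ := fun χ =>
    (QuotientGroup.lift (N χ) (G1 χ) fun f hf => MonoidHom.ext fun q => by
      obtain ⟨e, rfl⟩ := QuotientGroup.mk_surjective q
      show Φ χ e f = 1
      rw [hΦswap, (hNmem χ f).mp hf e, inv_one]).flip
  have hP : ∀ χ (e f : E), P χ (QuotientGroup.mk e) (QuotientGroup.mk f) = Φ χ e f := fun χ e f => rfl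
  set m : Wts ρ B → ℕ := fun χ => finrank F (wsp ρ B χ.1) with hm
  have hm1 : ∀ χ, 1 ≤ m χ := fun χ => Submodule.one_le_finrank_iff.mpr χ.2
  have hxm : ∀ χ, Nat.card (E ⧸ N χ) ≤ m χ ^ 2 := by
    intro χ
    set Wχ := wsp ρ B χ.1
    let T : E → Module.End F Wχ := fun e => (ρ e).restrict (hpres e (hEK e.2) χ.1)
    letI : Fintype (E ⧸ N χ) := Fintype.ofFinite _
    haveI : Nontrivial Wχ := Submodule.nontrivial_iff_ne_bot.mpr χ.2
    let ψ : E ⧸ N χ → (E →* F) := fun q => (Units.coeHom F).comp ((Φ χ).flip q.out)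
    have hψ : Function.Injective ψ := by
      intro q q' hq
      rw [← q.out_eq', ← q'.out_eq', QuotientGroup.eq, hNmem]
      intro f
      have h1 : Φ χ f q.out = Φ χ f q'.out := Units.ext (DFunLike.congr_fun hq f)
      rw [map_mul, map_inv, MonoidHom.mul_apply, MonoidHom.inv_apply, hΦswap χ f q.out,
        hΦswap χ f q'.out, h1, inv_inv, mul_inv_cancel]
    have hconj : ∀ f e : E, ∀ w : Wχ, T f (T e w) = χ.1 (cm f e) • T e (T f w) := by
      intro f e w
      refine Subtype.ext ?_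
      show ρ f (ρ e w) = χ.1 (cm f e) • ρ e (ρ f w)
      have hmem : ρ e (ρ f w) ∈ wsp ρ B χ.1 := hpres e (hEK e.2) _ _ (hpres f (hEK f.2) _ _ w.2)
      rw [← mem_wsp.mp hmem (cm f e), ← rho_mul_apply, ← rho_mul_apply, ← rho_mul_apply]
      congr 2
      simp only [cm]
      group
    have hTinv : ∀ e : E, ∀ w : Wχ, T e (T e⁻¹ w) = w := fun e w => Subtype.ext (by
      show ρ e (ρ ((e⁻¹ : E) : C) w) = w
      rw [← rho_mul_apply, Subgroup.coe_inv, mul_inv_cancel, map_one, Module.End.one_apply])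
    have hli : LinearIndependent F (fun q : E ⧸ N χ => T q.out) := by
      rw [Fintype.linearIndependent_iff]
      intro c hc q0
      have hzero : ∀ (f : E) (w : Wχ), ∑ q, (c q * ψ q f) • T q.out w = 0 := by
        intro f w
        have h0 := congrArg (fun L : Module.End F Wχ => L (T f⁻¹ w)) hc
        simp only [LinearMap.sum_apply, LinearMap.smul_apply, LinearMap.zero_apply] at h0
        have h1 := congrArg (T f) h0
        rw [map_sum, map_zero] at h1
        rw [← h1]
        refine Finset.sum_congr rfl fun q _ => ?_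
        rw [map_smul, hconj f q.out, smul_smul, hTinv]
        rfl
      obtain ⟨w, hw⟩ := exists_ne (0 : Wχ)
      have hTw : T q0.out w ≠ 0 := fun h => hw (by
        have := congrArg (T q0.out⁻¹) h
        rw [map_zero] at this
        rw [← this]
        have h2 := hTinv q0.out⁻¹ w
        rwa [inv_inv, eq_comm] at h2)
      obtain ⟨L, hL⟩ : ∃ L : Wχ →ₗ[F] F, L (T q0.out w) ≠ 0 := by
        by_contra hcon
        push Not at hcon
        exact hTw ((Module.forall_dual_apply_eq_zero_iff F _).mp hcon)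
      have hind := (linearIndependent_monoidHom E F).comp ψ hψ
      rw [Fintype.linearIndependent_iff] at hind
      have := hind (fun q => c q * L (T q.out w)) (_root_.funext fun f => by
        have h2 := congrArg L (hzero f w)
        rw [map_sum, map_zero] at h2
        rw [Finset.sum_apply, Pi.zero_apply, ← h2]
        refine Finset.sum_congr rfl fun q _ => ?_
        simp only [Pi.smul_apply, Function.comp_apply, smul_eq_mul, map_smul]
        ring) q0
      exact (mul_eq_zero.mp this).resolve_right hL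
    have h := hli.fintype_card_le_finrank
    rw [← Nat.card_eq_fintype_card] at h
    exact h.trans_eq (by rw [Module.finrank_linearMap, sq])
  have hexp : ∀ χ, Squarefree (Monoid.exponent (E ⧸ N χ)) := fun χ =>
    hnsq.squarefree_of_dvd (Monoid.exponent_dvd_of_forall_pow_eq_one fun q => by
      obtain ⟨e, rfl⟩ := QuotientGroup.mk_surjective q
      rw [← QuotientGroup.mk_pow, QuotientGroup.eq_one_iff]
      exact hBN χ _ (hpown e))
  -- the action of `K`
  have hcmk : ∀ (k : K) (e f : E),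
      cm (MulAut.conjNormal (k : C) e) (MulAut.conjNormal (k : C) f) = cm e f := by
    intro k e f
    refine Subtype.ext ?_
    show (MulAut.conjNormal (k : C) e : C) * (MulAut.conjNormal (k : C) f : C) *
      (MulAut.conjNormal (k : C) e : C)⁻¹ * (MulAut.conjNormal (k : C) f : C)⁻¹ = _
    simp only [MulAut.conjNormal_apply]
    calc _ = (k : C) * ((e : C) * f * (e : C)⁻¹ * (f : C)⁻¹) * (k : C)⁻¹ := by group
      _ = _ := by rw [← hcentral k k.2 _ (hEc e e.2 f f.2), mul_inv_cancel_right]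
  have hKpres : ∀ (χ : Wts ρ B) (k : K) (e : E), e ∈ N χ → MulAut.conjNormal (k : C) e ∈ N χ := by
    intro χ k e he
    rw [hNmem] at he ⊢
    intro f
    obtain ⟨f, rfl⟩ := (MulAut.conjNormal (H := E) (k : C)).surjective f
    rw [hΦ, hcmk, ← hΦ]
    exact he f
  have hmap : ∀ (χ : Wts ρ B) (k : K),
      Subgroup.map (MulAut.conjNormal (H := E) (k : C) : E ≃* E).toMonoidHom (N χ) = N χ := by
    intro χ k
    refine le_antisymm ?_ fun e he => ?_
    · rintro _ ⟨e, he, rfl⟩; exact hKpres χ k e he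
    · refine ⟨MulAut.conjNormal ((k⁻¹ : K) : C) e, hKpres χ k⁻¹ e he, ?_⟩
      simp
  let Ψ : ∀ χ : Wts ρ B, K →* MulAut (E ⧸ N χ) := fun χ =>
    { toFun := fun k => QuotientGroup.congr _ _ (MulAut.conjNormal (H := E) (k : C)) (hmap χ k)
      map_one' := MulEquiv.ext fun q => by
        obtain ⟨e, rfl⟩ := QuotientGroup.mk_surjective q
        show QuotientGroup.mk (MulAut.conjNormal ((1 : K) : C) e) = QuotientGroup.mk e
        simp
      map_mul' := fun k l => MulEquiv.ext fun q => by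
        obtain ⟨e, rfl⟩ := QuotientGroup.mk_surjective q
        show QuotientGroup.mk (MulAut.conjNormal ((k * l : K) : C) e) =
          QuotientGroup.mk (MulAut.conjNormal (k : C) (MulAut.conjNormal (l : C) e))
        rw [Subgroup.coe_mul, map_mul, MulAut.mul_apply] }
  have hΨapp : ∀ χ (k : K) (e : E),
      Ψ χ k (QuotientGroup.mk e) = QuotientGroup.mk (MulAut.conjNormal (k : C) e) := fun χ k e => rfl
  have hEker : ∀ χ (k : K), (k : C) ∈ E → Ψ χ k = 1 := fun χ k hk => MulEquiv.ext fun q => by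
    obtain ⟨e, rfl⟩ := QuotientGroup.mk_surjective q
    rw [hΨapp, MulAut.one_apply]
    rw [show MulAut.conjNormal (k : C) e = ⟨(k : C), hk⟩ * e * ⟨(k : C), hk⟩⁻¹ from Subtype.ext (by
      simp [MulAut.conjNormal_apply]), QuotientGroup.mk_mul, QuotientGroup.mk_mul, QuotientGroup.mk_inv,
      mul_comm (QuotientGroup.mk (⟨(k : C), hk⟩ : E) : E ⧸ N χ), mul_inv_cancel_right]
  have hrad : ∀ e : E, (∀ χ : Wts ρ B, e ∈ N χ) → (e : C) ∈ B := by
    intro e he
    refine hcen e (hEK e.2) fun f hf => ?_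
    have h1 : ρ ((e : C) * f * (e : C)⁻¹ * f⁻¹) = 1 := ext_on_wsp hA hB0 fun χ hχ w hw => by
      rw [mem_wsp] at hw
      have h9 : χ (cm e ⟨f, hf⟩) = 1 :=
        (congrArg Units.val ((hNmem ⟨χ, hχ⟩ e).mp (he _) ⟨f, hf⟩)).trans Units.val_one
      show ρ ((cm e ⟨f, hf⟩ : B) : C) w = w
      rw [hw (cm e ⟨f, hf⟩)]
      exact (congrArg (· • w) h9).trans (one_smul F w)
    have := hρ (h1.trans (map_one ρ).symm)
    rw [mul_inv_eq_one, mul_inv_eq_iff_eq_mul] at this
    exact this
  intro H hHB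
  have hsmall : Nat.card (E.subgroupOf H) ≤ ∏ χ, m χ ^ 2 := by
    have hinj : Function.Injective (fun z : E.subgroupOf H =>
        fun χ : Wts ρ B => (QuotientGroup.mk (⟨((z : H) : C), z.2⟩ : E) : E ⧸ N χ)) := by
      intro z z' h
      have h2 : ∀ χ, (⟨((z : H) : C), z.2⟩ : E)⁻¹ * ⟨((z' : H) : C), z'.2⟩ ∈ N χ := fun χ =>
        QuotientGroup.eq.1 (congrFun h χ)
      have h3 : ((z : H) : C)⁻¹ * ((z' : H) : C) ∈ H ⊓ B :=
        Subgroup.mem_inf.2 ⟨H.mul_mem (H.inv_mem (z : H).2) (z' : H).2, hrad _ h2⟩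
      rw [hHB, Subgroup.mem_bot, inv_mul_eq_one] at h3
      exact Subtype.ext (Subtype.ext h3)
    refine (Nat.card_le_card_of_injective _ hinj).trans ?_
    rw [Nat.card_pi]
    exact Finset.prod_le_prod' fun χ _ => hxm χ
  have hsum3 : 3 ≤ ∑ χ, m χ := by
    rw [hsum]
    exact hW
  have hE3 : Nat.card (ConjClasses (E.subgroupOf H)) ≤ 3 ^ (finrank F W - 1) := by
    rw [← hsum]
    exact ((Nat.card_le_card_of_surjective _ ConjClasses.mk_surjective).trans hsmall).trans
      (prod_sq_le m hm1 hsum3)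
  haveI : (E.subgroupOf H).Normal := hEn.subgroupOf H
  rw [show (9 : ℕ) = 3 * 3 from rfl, mul_pow]
  refine (classes_le_normal (E.subgroupOf H)).trans (Nat.mul_le_mul hE3 ?_)
  set HK := K.subgroupOf H with hHK
  set f1 := (QuotientGroup.mk' (E.subgroupOf H)).comp HK.subtype with hf1
  have hstep1 := classes_le_index f1.range
  have hidx : f1.range.index ≤ K.index := by
    rw [hf1, MonoidHom.range_comp, Subgroup.range_subtype]
    refine (Nat.le_of_dvd (Nat.pos_of_ne_zero Subgroup.index_ne_zero_of_finite)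
      (Subgroup.index_map_dvd HK (QuotientGroup.mk'_surjective _))).trans ?_
    exact Nat.le_of_dvd (Nat.pos_of_ne_zero Subgroup.index_ne_zero_of_finite)
      (Subgroup.relIndex_dvd_index_of_normal K H)
  let incl : HK →* K := MonoidHom.mk' (fun z => ⟨((z : H) : C), z.2⟩) fun a b => rfl
  have hker1 : ∀ z, z ∈ f1.ker ↔ ((z : H) : C) ∈ E := fun z => by
    rw [hf1, MonoidHom.mem_ker, MonoidHom.comp_apply, QuotientGroup.mk'_apply,
      QuotientGroup.eq_one_iff, Subgroup.mem_subgroupOf]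
    rfl
  let fχ : ∀ χ, HK ⧸ f1.ker →* (Ψ χ).range := fun χ =>
    QuotientGroup.lift f1.ker ((Ψ χ).rangeRestrict.comp incl) fun z hz =>
      Subtype.ext (hEker χ (incl z) ((hker1 z).mp hz))
  have hprod : Nat.card (ConjClasses (HK ⧸ f1.ker)) ≤ ∏ χ, 3 ^ (m χ - 1) := by
    refine classes_le_prod (Y := fun χ => (Ψ χ).range) (fun χ => 3 ^ (m χ - 1)) (fun χ S => ?_)
      Finset.univ fχ fun g hg => ?_
    · refine classes_pairing_le (Nat.card (E ⧸ N χ)) (P := P χ)
        (φ := (Ψ χ).range.subtype.comp S.subtype) rfl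
        ⟨Subtype.val_injective.comp Subtype.val_injective, fun q => ?_, fun q hq => ?_, fun g u v => ?_⟩
        (hexp χ) (hm1 χ) (hxm χ)
      · obtain ⟨e, rfl⟩ := QuotientGroup.mk_surjective q
        rw [hP, hΦ, show cm e e = 1 from Subtype.ext (by
          show (e : C) * e * (e : C)⁻¹ * (e : C)⁻¹ = 1
          group), map_one]
      · obtain ⟨e, rfl⟩ := QuotientGroup.mk_surjective q
        exact (QuotientGroup.eq_one_iff e).mpr ((hNmem χ e).mpr fun f => hq (QuotientGroup.mk f))
      · obtain ⟨⟨_, k, rfl⟩, hgS⟩ := g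
        obtain ⟨e, rfl⟩ := QuotientGroup.mk_surjective u
        obtain ⟨f, rfl⟩ := QuotientGroup.mk_surjective v
        show P χ (Ψ χ k (QuotientGroup.mk e)) (Ψ χ k (QuotientGroup.mk f)) = _
        rw [hΨapp, hΨapp, hP, hP, hΦ, hΦ, hcmk]
    · obtain ⟨z, rfl⟩ := QuotientGroup.mk_surjective g
      refine (QuotientGroup.eq_one_iff z).mpr ((hker1 z).mpr (hTE _ z.2 fun e he => ?_))
      set u : E := MulAut.conjNormal ((incl z : K) : C) ⟨e, he⟩ * ⟨e, he⟩⁻¹ with hu
      have hu' : (u : C) = ((z : H) : C) * e * ((z : H) : C)⁻¹ * e⁻¹ := by simp [hu, incl]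
      rw [← hu']
      refine hrad u fun χ => ?_
      have h3 : Ψ χ (incl z) = 1 := congrArg Subtype.val (hg χ (Finset.mem_univ χ))
      have h4 := DFunLike.congr_fun h3 (QuotientGroup.mk (⟨e, he⟩ : E))
      rw [MulAut.one_apply, hΨapp] at h4
      rw [hu, ← (QuotientGroup.eq_one_iff _), QuotientGroup.mk_mul, QuotientGroup.mk_inv,
        mul_inv_eq_one]
      exact h4
  rw [classes_congr (QuotientGroup.quotientKerEquivRange f1)] at hprod
  refine hstep1.trans ((Nat.mul_le_mul hprod (hidx.trans hKidx)).trans ?_)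
  rw [Finset.prod_pow_eq_pow_sum, ← pow_add, ← hsum]
  refine Nat.pow_le_pow_right (by norm_num) ?_
  have h1 : Finset.univ.sum m = (∑ χ, (m χ - 1)) + Fintype.card (Wts ρ B) := by
    rw [← Finset.card_univ, Finset.card_eq_sum_ones, ← Finset.sum_add_distrib]
    exact Finset.sum_congr rfl fun χ _ => by have := hm1 χ; omega
  omega

end Cfsg.Agent.Lib.SolvBlock17
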