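import Mathlib
import Cfsg.Agent.Lib.SolvBlock17.Layer
import Cfsg.Agent.Lib.SolvBlock17.Classes
import Cfsg.Agent.Lib.ClassLowerSolv.Main
import Cfsg.Agent.Lib.DefectBound.Main
import Cfsg.Agent.Lib.PSolvable.HallHigman
import Cfsg.Agent.Lib.Coprime.Quotient
import Cfsg.Agent.Lib.PGroup.Frattini

/-!
# Class numbers of solvable groups with trivial `p'`-core

`k(H) ≤ 3^(d-1) p^d`, where `p^d` is the `p`-part of the order and `d ≥ 1`.
-/

set_option autoImplicit false
set_option linter.style.haveILetI false

namespace Cfsg.Agent.Lib.SolvBlock17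

open Cfsg
open Cfsg.Agent.Lib
open Subgroup
open scoped commutatorElement

universe u

/-- The bound. -/
def bnd (p d : ℕ) : ℕ := if d = 0 then 1 else 3 ^ (d - 1) * p ^ d

theorem pow_le_bnd (p d : ℕ) : p ^ d ≤ bnd p d := by
  unfold bnd
  split_ifs with h
  · rw [h, pow_zero]
  · exact Nat.le_mul_of_pos_left _ (pow_pos (by norm_num) _)

theorem bnd_mul (p a b : ℕ) : bnd p a * bnd p b ≤ bnd p (a + b) := by
  unfold bnd
  rcases Nat.eq_zero_or_pos a with rfl | ha
  · simp
  rcases Nat.eq_zero_or_pos b with rfl | hb
  · simp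
  rw [if_neg (by omega), if_neg (by omega), if_neg (by omega)]
  calc 3 ^ (a - 1) * p ^ a * (3 ^ (b - 1) * p ^ b) = 3 ^ (a - 1 + (b - 1)) * p ^ (a + b) := by ring
    _ ≤ 3 ^ (a + b - 1) * p ^ (a + b) :=
      Nat.mul_le_mul_right _ (Nat.pow_le_pow_right (by norm_num) (by omega))

/-- A vector moved by every non-trivial element of a coprime abelian faithful group. -/
theorem exists_regular_vector {X : Type u} [Group X] [Finite X] (V B : Subgroup X) [V.Normal]
    (hab : ∀ a ∈ V, ∀ b ∈ V, a * b = b * a) (hB : ∀ a ∈ B, ∀ b ∈ B, a * b = b * a)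
    (hcop : (Nat.card V).Coprime (Nat.card B))
    (hfaith : ∀ b ∈ B, (∀ a ∈ V, b * a = a * b) → b = 1) :
    ∃ v ∈ V, ∀ b ∈ B, b * v = v * b → b = 1 := by
  classical
  letI : CommGroup V :=
    { (inferInstance : Group V) with mul_comm := fun a b => Subtype.ext (hab a a.2 b b.2) }
  let sz : V → ℕ := fun v => Nat.card (B ⊓ centralizer ({(v : X)} : Set X) : Subgroup X)
  obtain ⟨v, hv⟩ := Finite.exists_min sz
  set D := B ⊓ centralizer ({(v : X)} : Set X) with hD
  refine ⟨v, v.2, fun b hb hbv => ?_⟩
  by_contra hb1
  haveI := Fintype.ofFinite D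
  have hbD : b ∈ D := mem_inf.2 ⟨hb, mem_centralizer_singleton_iff.2 hbv⟩
  obtain ⟨w, hw⟩ : ∃ w : V, ¬ ∀ d ∈ D, d * (w : X) = w * d := by
    by_contra h
    push Not at h
    exact hb1 (hfaith b hb fun a ha => h ⟨a, ha⟩ b hbD)
  let c : X →* MulAut V := MulAut.conjNormal
  have hc : ∀ (x : X) (a : V), ((c x a : V) : X) = x * a * x⁻¹ := fun x a =>
    MulAut.conjNormal_apply _ _
  have hcfix : ∀ (x : X) (a : V), c x a = a ↔ x * (a : X) = a * x := fun x a => by
    rw [Subtype.ext_iff, hc, mul_inv_eq_iff_eq_mul]
  let π : V →* V := MonoidHom.mk' (fun a => ∏ d : D, c (d : X) a) fun a a' => by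
    simp only [map_mul, Finset.prod_mul_distrib]
  have hπ : ∀ a, π a = ∏ d : D, c (d : X) a := fun a => rfl
  set m := Fintype.card D with hm
  have hπfix : ∀ a : V, (∀ d ∈ D, c d a = a) → π a = a ^ m := fun a ha => by
    rw [hπ, Finset.prod_congr rfl fun (d : D) _ => ha d d.2, Finset.prod_const, Finset.card_univ]
  have hπD : ∀ d ∈ D, ∀ a, c d (π a) = π a := fun d hd a => by
    rw [hπ, map_prod]
    refine Fintype.prod_equiv (Equiv.mulLeft (⟨d, hd⟩ : D)) _ _ fun e => ?_
    show c d (c (e : X) a) = c ((d : X) * e) a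
    rw [map_mul, MulAut.mul_apply]
  have hπB : ∀ x ∈ B, ∀ a, π (c x a) = c x (π a) := fun x hx a => by
    rw [hπ, hπ, map_prod]
    refine Finset.prod_congr rfl fun d _ => ?_
    rw [← MulAut.mul_apply, ← map_mul, hB d (mem_inf.1 d.2).1 x hx, map_mul, MulAut.mul_apply]
  have hcopm : (Nat.card V).Coprime m := hcop.coprime_dvd_right (by
    rw [hm, ← Nat.card_eq_fintype_card]
    exact card_dvd_of_le inf_le_left)
  have hinj : ∀ a a' : V, a ^ m = a' ^ m → a = a' := fun a a' h =>
    (powCoprime hcopm).injective h
  set z : V := w ^ m * (π w)⁻¹ with hz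
  have hπz : π z = 1 := by
    rw [hz, map_mul, map_pow, map_inv, hπfix (π w) fun d hd => hπD d hd w, mul_inv_cancel]
  have hvD : ∀ d ∈ D, c d v = v := fun d hd =>
    (hcfix d v).2 (mem_centralizer_singleton_iff.1 (mem_inf.1 hd).2)
  have hle : B ⊓ centralizer ({((v * z : V) : X)} : Set X) ≤
      D ⊓ centralizer ({(z : X)} : Set X) := by
    intro x hx
    obtain ⟨hxB, hxc⟩ := mem_inf.1 hx
    have h1 : c x (v * z) = v * z := (hcfix x _).2 (mem_centralizer_singleton_iff.1 hxc)
    rw [map_mul] at h1
    set r := c x v * v⁻¹ with hr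
    have hr' : r = z * (c x z)⁻¹ := by
      rw [hr, eq_mul_inv_iff_mul_eq, mul_right_comm, h1, mul_right_comm, mul_inv_cancel, one_mul]
    have hrD : ∀ d ∈ D, c d r = r := fun d hd => by
      rw [hr, map_mul, map_inv, hvD d hd]
      congr 1
      rw [← MulAut.mul_apply, ← map_mul, hB d (mem_inf.1 hd).1 x hxB, map_mul, MulAut.mul_apply,
        hvD d hd]
    have hr1 : r = 1 := by
      refine hinj _ _ ?_
      rw [← hπfix r hrD, hr', map_mul, map_inv, hπB x hxB, hπz, map_one, inv_one, mul_one, one_pow]
    have hxv : c x v = v := mul_inv_eq_one.1 (hr.symm.trans hr1)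
    rw [hxv, mul_right_inj] at h1
    exact mem_inf.2 ⟨mem_inf.2 ⟨hxB, mem_centralizer_singleton_iff.2 ((hcfix x v).1 hxv)⟩,
      mem_centralizer_singleton_iff.2 ((hcfix x z).1 h1)⟩
  have hlt : B ⊓ centralizer ({((v * z : V) : X)} : Set X) < D := by
    refine lt_of_le_of_ne (hle.trans inf_le_left) fun he => hw fun d hd => ?_
    have hdz : c d z = z := (hcfix d z).2 (mem_centralizer_singleton_iff.1
      (mem_inf.1 (hle (he.ge hd))).2)
    rw [hz, map_mul, map_inv, hπD d hd, mul_left_inj, map_pow] at hdz
    exact (hcfix d w).1 (hinj _ _ hdz)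
  have h3 : sz (v * z) < sz v := by
    refine lt_of_le_of_ne (card_le_of_le hlt.le) fun he => hlt.ne ?_
    exact Subgroup.eq_of_le_of_card_ge hlt.le he.ge
  exact absurd (hv (v * z)) (not_le.2 h3)

/-- The base case: an elementary abelian self-centralizing normal Sylow subgroup. -/
theorem base_case {X : Type u} [Group X] [Finite X] {p : ℕ} [hp : Fact p.Prime]
    (hs : Group.IsSolvable X) (V : Subgroup X) [V.Normal] (hV : IsPGroup p V)
    (hab : ∀ a ∈ V, ∀ b ∈ V, a * b = b * a) (hexp : ∀ a ∈ V, a ^ p = 1)
    (hidx : ¬ p ∣ V.index) (hCV : centralizer (V : Set X) ≤ V) :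
    Nat.card (ConjClasses X) ≤ bnd p ((Nat.card X).factorization p) := by
  classical
  obtain ⟨d, hd⟩ := hV.exists_card_eq
  have hfacV : (Nat.card V).factorization p = d := by
    rw [hd, Nat.Prime.factorization_pow hp.out, Finsupp.single_eq_same]
  have hfac : (Nat.card X).factorization p = d := by
    rw [← V.card_mul_index, Nat.factorization_mul Nat.card_pos.ne' V.index_ne_zero_of_finite,
      Finsupp.add_apply, Nat.factorization_eq_zero_of_not_dvd hidx, hfacV, add_zero]
  rw [hfac]
  obtain ⟨M, hM⟩ := CharCount.exists_isPModular p hp.out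
  haveI := Blocks.isPModular_isPrime hM
  rcases Nat.lt_or_ge d 3 with hsmall | hbig
  · refine le_trans ?_ (pow_le_bnd p d)
    have h := (DefectBound.card_block_le hM d X (principalBlock M X)
      (Blocks.PrincipalSection.isPBlock_principalBlock M X)
      (by rw [principalBlock_eq_univ hM V hV hCV, (heights_univ V hab hidx).1, hfacV])).1 (by omega)
    rwa [principalBlock_eq_univ hM V hV hCV, Nat.card_congr (Equiv.Set.univ _),
      Chars.card_irrCharacter] at h
  -- a complement
  have hcop : (Nat.card V).Coprime V.index := by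
    rw [hd]
    exact Nat.Coprime.pow_left _ (hp.out.coprime_iff_not_dvd.2 hidx)
  obtain ⟨G, hGV'⟩ := exists_left_complement'_of_coprime hcop
  have hGV : IsComplement' V G := hGV'.symm
  have hGcard : Nat.card G = V.index := by rw [← hGV.symm.index_eq_card]
  -- the matrices
  have hcomm : ∀ a b : V, a * b = b * a := fun a b => Subtype.ext (hab a a.2 b b.2)
  obtain ⟨n, hn, Mh, e, hMh, -, -, -⟩ := ClassLowerSolv.exists_linear_model (r := p) hcomm
    fun a => Subtype.ext (hexp a a.2)
  obtain rfl : n = d := Nat.pow_right_injective hp.out.two_le (hn.symm.trans hd)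
  let θ : G →* MulAut V := MulAut.conjNormal.comp G.subtype
  have hθ : Function.Injective θ := by
    rw [injective_iff_map_eq_one]
    intro g hg
    have hgV : (g : X) ∈ V := hCV (mem_centralizer_iff.2 fun a ha => by
      have h1 := congrArg (fun α : MulAut V => ((α ⟨a, ha⟩ : V) : X)) hg
      simp only [θ, MonoidHom.comp_apply, MulAut.conjNormal_apply, MulAut.one_apply,
        Subgroup.coe_subtype] at h1
      rw [mul_inv_eq_iff_eq_mul] at h1
      exact h1.symm)
    exact Subtype.ext (disjoint_def.1 hGV.disjoint hgV g.2)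
  let f : G →* (Matrix (Fin n) (Fin n) (ZMod p))ˣ := (Mh.comp θ).toHomUnits
  have hf : Function.Injective f := fun a b h => hθ (hMh (congrArg Units.val h))
  let C0 : Type := f.range
  haveI : Group.IsSolvable X := hs
  haveI : Group.IsSolvable f.range :=
    Group.isSolvable_of_surjective (f := f.rangeRestrict) f.rangeRestrict_surjective
  let F := AlgebraicClosure (ZMod p)
  haveI : CharP F p := charP_of_injective_algebraMap (algebraMap (ZMod p) F).injective p
  let ρ : f.range →* Module.End F (Fin n → F) :=
    (Matrix.toLinAlgEquiv' : Matrix (Fin n) (Fin n) F ≃ₐ[F] _).toAlgHom.toRingHom.toMonoidHom.comp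
      (((algebraMap (ZMod p) F).mapMatrix.toMonoidHom.comp (Units.coeHom _)).comp f.range.subtype)
  have hρ : Function.Injective ρ := fun a b h => by
    refine Subtype.ext (Units.ext ?_)
    exact Matrix.map_injective (algebraMap (ZMod p) F).injective
      ((Matrix.toLinAlgEquiv' : Matrix (Fin n) (Fin n) F ≃ₐ[F] _).injective h)
  have hC : (Nat.card f.range : F) ≠ 0 := by
    rw [Ne, CharP.cast_eq_zero_iff F p, Nat.card_congr (MonoidHom.ofInjective hf).toEquiv.symm,
      hGcard]
    exact hidx
  obtain ⟨B0, hB0n, hB0a, hB0⟩ := exists_abelian_classes_bound hC ρ hρ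
    (by rw [Module.finrank_fintype_fun_eq_card, Fintype.card_fin]; exact hbig)
  set φ := MonoidHom.ofInjective hf with hφ
  let B : Subgroup X := (B0.comap φ.toMonoidHom).map G.subtype
  have hBG : B ≤ G := map_subtype_le _
  obtain ⟨v, hvV, hv⟩ := exists_regular_vector V B hab
    (by
      rintro _ ⟨a, ha, rfl⟩ _ ⟨b, hb, rfl⟩
      rw [← map_mul, ← map_mul]
      refine congrArg _ (φ.injective ?_)
      rw [map_mul, map_mul]
      exact hB0a _ ha _ hb)
    (hcop.coprime_dvd_right (hGcard ▸ card_dvd_of_le hBG))
    (fun b hb h => disjoint_def.1 hGV.disjoint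
      (hCV (mem_centralizer_iff.2 fun a ha => (h a ha).symm)) (hBG hb))
  have hmain := classes_sq_le V G hV hab hidx hCV hGV hvV
  set S := G ⊓ centralizer ({v} : Set X) with hS
  let ι : S →* f.range := φ.toMonoidHom.comp (inclusion inf_le_left)
  have hι : Function.Injective ι := φ.injective.comp (inclusion_injective _)
  have hSB : ι.range ⊓ B0 = ⊥ := by
    rw [eq_bot_iff]
    intro y hy
    obtain ⟨hyr, hyB⟩ := mem_inf.1 hy
    obtain ⟨s, rfl⟩ := hyr
    have hs1 : (s : X) = 1 := hv _ ⟨inclusion inf_le_left s, hyB, rfl⟩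
      (mem_centralizer_singleton_iff.1 (mem_inf.1 s.2).2)
    rw [mem_bot, show s = 1 from Subtype.ext hs1, map_one]
  have hk := hB0 ι.range hSB
  rw [Module.finrank_fintype_fun_eq_card, Fintype.card_fin,
    ← ClassesModFitting.classes_congr (MonoidHom.ofInjective hι)] at hk
  have h2 := hmain.trans (Nat.mul_le_mul_left _ hk)
  rw [hd, show (9 : ℕ) ^ (n - 1) = (3 ^ (n - 1)) ^ 2 by rw [← pow_mul, mul_comm, pow_mul]; norm_num,
    ← mul_pow] at h2
  refine ((Nat.pow_le_pow_iff_left (by norm_num : (2 : ℕ) ≠ 0)).1 h2).trans ?_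
  rw [bnd, if_neg (by omega), mul_comm]

theorem factorization_card_quotient {H : Type u} [Group H] [Finite H] (N : Subgroup H) [N.Normal]
    (p : ℕ) : (Nat.card H).factorization p =
      (Nat.card N).factorization p + (Nat.card (H ⧸ N)).factorization p := by
  rw [← N.card_mul_index, Nat.factorization_mul Nat.card_pos.ne' N.index_ne_zero_of_finite,
    Finsupp.add_apply]
  rfl

/-- The step along a normal subgroup. -/
theorem classes_step {H : Type u} [Group H] [Finite H] {p : ℕ} (N : Subgroup H) [N.Normal]
    (h1 : Nat.card (ConjClasses N) ≤ bnd p ((Nat.card N).factorization p))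
    (h2 : Nat.card (ConjClasses (H ⧸ N)) ≤ bnd p ((Nat.card (H ⧸ N)).factorization p)) :
    Nat.card (ConjClasses H) ≤ bnd p ((Nat.card H).factorization p) := by
  rw [factorization_card_quotient N p]
  exact (ClassesModFitting.classes_le_normal N).trans ((Nat.mul_le_mul h1 h2).trans (bnd_mul p _ _))

theorem pPrimeCore_normal_eq_bot {H : Type u} [Group H] [Finite H] {p : ℕ} (N : Subgroup H)
    [N.Normal] (h : pPrimeCore p H = ⊥) : pPrimeCore p N = ⊥ := by
  have := PSolvable.map_subtype_pPrimeCore_of_normal (p := p) N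
  rw [h, bot_inf_eq, Subgroup.map_eq_bot_iff, ker_subtype] at this
  exact eq_bot_iff.2 this

/-- `k(H) ≤ 3^(d-1) p^d` for solvable `H` with trivial `p'`-core. -/
theorem classes_le_bnd (n : ℕ) : ∀ {H : Type u} [Group H] [Finite H] {p : ℕ} [Fact p.Prime],
    Nat.card H ≤ n → Group.IsSolvable H → pPrimeCore p H = ⊥ →
    Nat.card (ConjClasses H) ≤ bnd p ((Nat.card H).factorization p) := by
  induction n with
  | zero =>
    intro H _ _ p _ hn
    have := Nat.card_pos (α := H)
    omega
  | succ n ih =>
    intro H _ _ p hp hn hs h0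
    classical
    haveI := hs
    set V := pCore p H with hVdef
    haveI hVn : V.Normal := by
      have := PSolvable.pCore_characteristic (p := p) (G := H)
      infer_instance
    have hV : IsPGroup p V := PSolvable.pCore_isPGroup
    have hCV : centralizer (V : Set H) ≤ V :=
      PSolvable.centralizer_pCore_le_of_isPSolvable PSolvable.isPSolvable_of_isSolvable h0
    by_cases hV1 : V = ⊥
    · haveI : Subsingleton H := ⟨fun a b => by
        have h1 : ∀ x : H, x = 1 := fun x => by
          have : x ∈ V := hCV (mem_centralizer_iff.2 fun y hy => by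
            rw [hV1] at hy
            rw [mem_bot.1 hy, one_mul, mul_one])
          rwa [hV1, mem_bot] at this
        rw [h1 a, h1 b]⟩
      rw [ClassesModFitting.classes_eq_one_of_subsingleton]
      exact le_trans (Nat.one_le_pow _ _ hp.out.pos) (pow_le_bnd p _)
    have hVcard : 1 < Nat.card V := by
      haveI := (nontrivial_iff_ne_bot V).2 hV1
      exact Finite.one_lt_card
    -- a normal subgroup with quotient of smaller order
    have hquot : ∀ N : Subgroup H, [N.Normal] → N ≠ ⊥ → Nat.card (H ⧸ N) ≤ n := by
      intro N _ hN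
      haveI := (nontrivial_iff_ne_bot N).2 hN
      have h1 : 1 < Nat.card N := Finite.one_lt_card
      have h2 := N.card_mul_index
      rw [Subgroup.index_eq_card] at h2
      have h3 : 0 < Nat.card (H ⧸ N) := Nat.card_pos
      nlinarith
    have hsub : ∀ N : Subgroup H, N ≠ ⊤ → Nat.card N ≤ n := by
      intro N hN
      have h1 : Nat.card N < Nat.card H :=
        lt_of_le_of_ne (card_le_card_group N) fun h => hN (eq_top_of_card_eq N h)
      omega
    set F := (frattini V).map V.subtype with hF
    haveI hFn : F.Normal := ConjAct.normal_of_characteristic_of_normal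
    have hFV : F ≤ V := map_subtype_le _
    by_cases hF1 : F = ⊥
    · have hab : ∀ a ∈ V, ∀ b ∈ V, a * b = b * a := fun a ha b hb => by
        have h1 : ⁅(⟨a, ha⟩ : V), ⟨b, hb⟩⁆ ∈ frattini V := PFrattini.commutator_le_frattini hV
          (commutator_mem_commutator (mem_top _) (mem_top _))
        rw [Subgroup.map_eq_bot_iff, ker_subtype, le_bot_iff] at hF1
        rw [hF1, mem_bot, commutatorElement_eq_one_iff_mul_comm] at h1
        exact congrArg Subtype.val h1
      have hexp : ∀ a ∈ V, a ^ p = 1 := fun a ha => by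
        have h1 : (⟨a, ha⟩ : V) ^ p ∈ frattini V := PFrattini.pow_mem_frattini hV _
        rw [Subgroup.map_eq_bot_iff, ker_subtype, le_bot_iff] at hF1
        rw [hF1, mem_bot] at h1
        exact congrArg Subtype.val h1
      set K := (pPrimeCore p (H ⧸ V)).comap (QuotientGroup.mk' V) with hK
      haveI hKn : K.Normal := by
        haveI : (pPrimeCore p (H ⧸ V)).Normal := by
          have := PSolvable.pPrimeCore_characteristic (p := p) (G := H ⧸ V)
          infer_instance
        exact Subgroup.Normal.comap inferInstance _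
      by_cases hKt : K = ⊤
      · refine base_case hs V hV hab hexp ?_ hCV
        have htop : pPrimeCore p (H ⧸ V) = ⊤ := by
          rw [eq_top_iff, ← map_top_of_surjective _ (QuotientGroup.mk'_surjective V), ← hKt,
            Subgroup.map_comap_eq_self_of_surjective (QuotientGroup.mk'_surjective V)]
        have h1 := PSolvable.pPrimeCore_not_dvd (p := p) (G := H ⧸ V)
        rwa [htop, card_top, ← Subgroup.index_eq_card] at h1
      · have hVK : V ≤ K := QuotientGroup.le_comap_mk' V _
        have hKne : K ≠ ⊥ := fun h => hV1 (le_bot_iff.1 (h ▸ hVK))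
        refine classes_step K (ih (hsub K hKt) inferInstance (pPrimeCore_normal_eq_bot K h0))
          (ih (hquot K hKne) inferInstance ?_)
        refine PSolvable.eq_bot_of_comap_mk'_le K ?_
        set Q := pPrimeCore p (H ⧸ K)
        haveI : Q.Normal := by
          have := PSolvable.pPrimeCore_characteristic (p := p) (G := H ⧸ K)
          infer_instance
        set L := Q.comap (QuotientGroup.mk' K) with hL
        haveI : L.Normal := Subgroup.Normal.comap inferInstance _
        haveI : (L.map (QuotientGroup.mk' V)).Normal :=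
          Subgroup.Normal.map inferInstance _ (QuotientGroup.mk'_surjective V)
        have hVL : V ≤ L := hVK.trans (QuotientGroup.le_comap_mk' K _)
        have hle : L.map (QuotientGroup.mk' V) ≤ pPrimeCore p (H ⧸ V) := by
          refine PSolvable.le_pPrimeCore ?_
          have h1 : Nat.card L = Nat.card V * Nat.card (L.map (QuotientGroup.mk' V)) := by
            rw [← PSolvable.card_comap_mk' V, Subgroup.comap_map_eq_self]
            rwa [QuotientGroup.ker_mk']
          have h2 : Nat.card L = Nat.card K * Nat.card Q := PSolvable.card_comap_mk' K Q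
          have h3 : Nat.card K = Nat.card V * Nat.card (pPrimeCore p (H ⧸ V)) :=
            PSolvable.card_comap_mk' V _
          rw [h2, h3, mul_assoc] at h1
          rw [← Nat.eq_of_mul_eq_mul_left Nat.card_pos h1]
          exact Nat.Coprime.mul_left PSolvable.pPrimeCore_coprime PSolvable.pPrimeCore_coprime
        exact (Subgroup.le_comap_map _ L).trans (Subgroup.comap_mono hle)
    · refine classes_step F (ih (hsub F fun h => ?_) inferInstance (pPrimeCore_normal_eq_bot F h0))
        (ih (hquot F hF1) inferInstance ?_)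
      · have h1 : frattini V = ⊤ := by
          refine eq_top_iff.2 fun x _ => ?_
          have : (x : H) ∈ F := h ▸ mem_top _
          obtain ⟨y, hy, hyx⟩ := this
          rwa [← Subtype.ext hyx]
        haveI := (nontrivial_iff_ne_bot V).2 hV1
        obtain ⟨M, hM, -⟩ := (eq_top_or_exists_le_coatom (⊥ : Subgroup V)).resolve_left bot_ne_top
        exact hM.1 (top_le_iff.1 (h1 ▸ frattini_le_coatom hM))
      · refine PSolvable.eq_bot_of_comap_mk'_le F ?_
        set Q := pPrimeCore p (H ⧸ F)
        haveI : Q.Normal := by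
          have := PSolvable.pPrimeCore_characteristic (p := p) (G := H ⧸ F)
          infer_instance
        set L := Q.comap (QuotientGroup.mk' F) with hL
        have hLn : L.Normal := Subgroup.Normal.comap inferInstance _
        intro y hy
        have hyQ : QuotientGroup.mk' F y ∈ Q := hy
        -- split off the `p`-part
        obtain ⟨j, r, hr, hord⟩ := Nat.exists_eq_pow_mul_and_not_dvd
          (orderOf_pos y).ne' p hp.out.ne_one
        set y' := y ^ p ^ j with hy'
        have hord' : orderOf y' = r := by
          rw [hy', orderOf_pow, hord, Nat.gcd_eq_right (Dvd.intro r rfl),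
            Nat.mul_div_cancel_left _ (pow_pos hp.out.pos j)]
        have hle : zpowers y' ≤ centralizer (V : Set H) := by
          refine Coprime.le_centralizer_of_frattini (by rw [normalizer_eq_top]; exact le_top) ?_ ?_
          · rw [Nat.card_zpowers, hord']
            obtain ⟨e, he⟩ := IsPGroup.iff_card.1 (hV.to_subgroup (frattini V))
            rw [he]
            exact Nat.Coprime.pow_right _ (hp.out.coprime_iff_not_dvd.2 hr).symm
          · intro a ha k hk
            have haL : a ∈ L := zpowers_le.2 (L.pow_mem hy _) ha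
            have hkn : (QuotientGroup.mk' F k) ∈ V.map (QuotientGroup.mk' F) :=
              mem_map_of_mem _ hk
            have h1 : QuotientGroup.mk' F (a * k * a⁻¹ * k⁻¹) ∈
                V.map (QuotientGroup.mk' F) ⊓ Q := by
              refine mem_inf.2 ⟨?_, ?_⟩
              · exact mem_map_of_mem _ (mul_mem (hVn.conj_mem k hk a) (inv_mem hk))
              · have h2 : a * k * a⁻¹ * k⁻¹ ∈ L := by
                  rw [show a * k * a⁻¹ * k⁻¹ = a * (k * a⁻¹ * k⁻¹) by group]
                  exact mul_mem haL (hLn.conj_mem _ (inv_mem haL) k)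
                exact h2
            rw [PSolvable.inf_eq_bot_of_isPGroup_of_coprime (hV.map _)
              PSolvable.pPrimeCore_coprime, mem_bot, QuotientGroup.mk'_apply,
              QuotientGroup.eq_one_iff] at h1
            exact h1
        have hyV : y' ∈ V := hCV (hle (mem_zpowers y'))
        have hr1 : r = 1 := by
          obtain ⟨e, he⟩ := IsPGroup.iff_orderOf.1 hV ⟨y', hyV⟩
          rw [Subgroup.orderOf_mk, hord'] at he
          rcases e with _ | e
          · simpa using he
          · exact absurd (he ▸ dvd_pow_self p (Nat.succ_ne_zero e)) hr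
        have h2 : orderOf (QuotientGroup.mk' F y) ∣ p ^ j :=
          (orderOf_map_dvd _ _).trans (by rw [hord, hr1, mul_one])
        have h3 : orderOf (QuotientGroup.mk' F y) ∣ Nat.card Q := by
          rw [← Nat.card_zpowers]
          exact card_dvd_of_le (zpowers_le.2 hyQ)
        have h4 : orderOf (QuotientGroup.mk' F y) = 1 :=
          Nat.eq_one_of_dvd_coprimes ((PSolvable.pPrimeCore_coprime (p := p) (G := H ⧸ F)).pow_right j)
            h3 h2
        rwa [orderOf_eq_one_iff, QuotientGroup.mk'_apply, QuotientGroup.eq_one_iff] at h4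

end Cfsg.Agent.Lib.SolvBlock17
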